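import Groth.Agent.L10.Hyper.H0
import Groth.Agent.L10.InjOverRes

/-! Čech complexes of acyclic sheaves with respect to hypercoverings. -/

universe u

open CategoryTheory CategoryTheory.Limits CategoryTheory.Abelian Opposite Simplicial

set_option backward.defeqAttrib.useBackward true
set_option backward.isDefEq.respectTransparency false
namespace Groth.L10.Hyper

open Groth.L10.SiteCoh

variable {C : Type u} [SmallCategory C] {J : GrothendieckTopology C}

section

variable {K : SimplicialObject (FormalCoproduct.{u} C)} {P Q : Cᵒᵖ ⥤ AddCommGrpCat.{u}}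

/-- Functoriality of Čech complexes. -/
noncomputable abbrev cxMap (K : SimplicialObject (FormalCoproduct.{u} C)) (g : P ⟶ Q) : cx K P ⟶ cx K Q :=
  (FormalCoproduct.cochainComplexFunctor K).map g

theorem co_map (g : P ⟶ Q) {n : ℕ} (i : (K _⦋n⦌).I) (x : (cx K P).X n) :
    co i ((cxMap K g).f n x) = g.app (op ((K _⦋n⦌).obj i)) (co i x) := by
  change (((cxMap K g).f n) ≫ Pi.π (fun i : (K _⦋n⦌).I => Q.obj (op ((K _⦋n⦌).obj i))) i) x = _
  simp [cxMap, FormalCoproduct.cochainComplexFunctor, AlgebraicTopology.alternatingCofaceMapComplex,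
    AlgebraicTopology.AlternatingCofaceMapComplex.map]
  rfl

theorem cxMap_d (g : P ⟶ Q) (n m : ℕ) (x : (cx K P).X n) :
    (cxMap K g).f m ((cx K P).d n m x) = (cx K Q).d n m ((cxMap K g).f n x) :=
  congr($((cxMap K g).comm n m) x).symm

theorem cochainEquiv_comp (g : P ⟶ Q) {n : ℕ} (φ : (freeP (sps K)) _⦋n⦌ ⟶ P) :
    (cxMap K g).f n (cochainEquiv K P n φ) = cochainEquiv K Q n (φ ≫ g) :=
  co_ext fun i => by
    rw [co_map, co_cochainEquiv, co_cochainEquiv]
    rfl

/-- Every degree-zero cocycle of a sheaf comes from a global section. -/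
theorem exists_of_cocycle (hX : LocFill J (sps K)) (F : Sheaf J AddCommGrpCat.{u}) (x : (cx K F.obj).X 0)
    (hx : (cx K F.obj).d 0 1 x = 0) : ∃ χ : constZ C ⟶ F.obj, cochainEquiv K F.obj 0 (augP (sps K) ≫ χ) = x := by
  let adj := sheafificationAdjunction J AddCommGrpCat.{u}
  obtain ⟨φ, rfl⟩ := (cochainEquiv K F.obj 0).surjective x
  have hφ : dP (sps K) 0 ≫ φ = 0 := (cochainEquiv K F.obj 1).injective (by
    rw [cochainEquiv_d, hx, map_zero])
  let S := (ShortComplex.mk (dP (sps K) 0) (augP (sps K)) (dP_augP (sps K))).map (presheafToSheaf J AddCommGrpCat.{u})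
  have hS : S.Exact := aug_exact hX
  have : Epi S.g := aug_epi hX
  let φ' : S.X₂ ⟶ F := (adj.homEquiv _ _).symm φ
  have hφ' : S.f ≫ φ' = 0 := by
    refine (adj.homEquiv_naturality_left_symm _ _).symm.trans ?_
    rw [hφ]
    exact (adj.homAddEquiv _ _).symm.map_zero
  refine ⟨adj.homEquiv _ _ (hS.desc φ' hφ'), congrArg (cochainEquiv K F.obj 0) ?_⟩
  refine (adj.homEquiv_naturality_left _ _).symm.trans ?_
  rw [show (presheafToSheaf J AddCommGrpCat.{u}).map (augP (sps K)) ≫ hS.desc φ' hφ' = φ' from hS.g_desc φ' hφ']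
  exact (adj.homEquiv _ _).apply_symm_apply φ

end

variable {X : C} {K : SimplicialObject (FormalCoproduct.{u} (Over X))}

/-- The Čech complex over a slice. -/
noncomputable abbrev cxO (K : SimplicialObject (FormalCoproduct.{u} (Over X))) (F : Sheaf J AddCommGrpCat.{u}) :
    CochainComplex AddCommGrpCat.{u} ℕ := cx K ((J.overPullback AddCommGrpCat.{u} X).obj F).obj

/-- Its functoriality. -/
noncomputable abbrev cxOMap (K : SimplicialObject (FormalCoproduct.{u} (Over X))) {F G : Sheaf J AddCommGrpCat.{u}}
    (g : F ⟶ G) : cxO K F ⟶ cxO K G := cxMap K ((J.overPullback AddCommGrpCat.{u} X).map g).hom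

theorem exists_eq_d (hX : LocFill (J.over X) (sps K)) (p : ℕ) (F : Sheaf J AddCommGrpCat.{u})
    (hF : ∀ (U : C) (q : ℕ), Subsingleton (Ext (fs J U) F (q + 1))) (z : (cxO K F).X (p + 1))
    (hz : (cxO K F).d (p + 1) (p + 1 + 1) z = 0) : ∃ w, (cxO K F).d p (p + 1) w = z := by
  induction p using Nat.strong_induction_on generalizing F with
  | _ p ih =>
    have hS := hull_shortExact F
    have := InjOverRes.injective_overPullback J X (hull F).X₂
    have hsur : ∀ U, Function.Surjective ((hull F).g.hom.app (op U)) := fun U => by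
      have := hF U 0
      exact surjective_sections_of_subsingleton hS U
    obtain ⟨w, hw⟩ : ∃ w, (cxO K (hull F).X₂).d p (p + 1) w = (cxOMap K (hull F).f).f (p + 1) z := by
      have h := isZero_homology_of_injective hX ((J.overPullback AddCommGrpCat.{u} X).obj (hull F).X₂) p
      rw [← HomologicalComplex.exactAt_iff_isZero_homology,
        HomologicalComplex.exactAt_iff' _ p (p + 1) (p + 1 + 1) (by simp) (by simp), ShortComplex.ab_exact_iff] at h
      exact h _ ((cxMap_d _ _ _ z).symm.trans (by rw [hz, map_zero]))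
    have hgw : (cxO K (hull F).X₃).d p (p + 1) ((cxOMap K (hull F).g).f p w) = 0 := by
      rw [← cxMap_d, hw]
      refine co_ext fun i => ?_
      rw [co_map, co_map, map_zero]
      exact congr($(congr_app (congrArg (fun t => t.hom) (hull F).zero) (op ((K _⦋p + 1⦌).obj i).left)) (co i z))
    obtain ⟨w₀, hd, hg⟩ : ∃ w₀, (cxO K (hull F).X₂).d p (p + 1) w₀ = 0 ∧
        (cxOMap K (hull F).g).f p w₀ = (cxOMap K (hull F).g).f p w := by
      cases p with
      | zero =>
        obtain ⟨χ, hχ⟩ := exists_of_cocycle hX ((J.overPullback AddCommGrpCat.{u} X).obj (hull F).X₃) _ hgw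
        let G := fun F : Sheaf J AddCommGrpCat.{u} => ((J.overPullback AddCommGrpCat.{u} X).obj F).obj
        let e := constHomEquiv (G (hull F).X₃)
        obtain ⟨s, hs⟩ := hsur X ((limitOverIso (G (hull F).X₃)).hom (e χ))
        let χ' : constZ (Over X) ⟶ G (hull F).X₂ :=
          (constHomEquiv (G (hull F).X₂)).symm ((limitOverIso (G (hull F).X₂)).inv s)
        refine ⟨cochainEquiv K _ 0 (augP (sps K) ≫ χ'), ?_, ?_⟩
        · refine (cochainEquiv_d (K := K) (n := 0) _).symm.trans ?_
          rw [← Category.assoc, dP_augP, zero_comp]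
          exact map_zero _
        · refine (cochainEquiv_comp _ _).trans (Eq.trans ?_ hχ)
          rw [Category.assoc]
          congr 2
          refine e.injective ((limitOverIso (G (hull F).X₃)).addCommGroupIsoToAddEquiv.injective ?_)
          refine Eq.trans ?_ hs
          have h1 : ∀ (P : (Over X)ᵒᵖ ⥤ AddCommGrpCat.{u}) (l : (limit P : AddCommGrpCat.{u})),
              (limitOverIso P).hom l = limit.π P (op (Over.mk (𝟙 X))) l := fun P l => rfl
          refine (h1 _ _).trans ?_
          refine (congr($(limit.lift_π (F := G (hull F).X₃) (coneOf _) _) (FreeAbelianGroup.of PUnit.unit))).trans ?_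
          change (hull F).g.hom.app (op X) (χ'.app (op (Over.mk (𝟙 X))) (FreeAbelianGroup.of PUnit.unit)) = _
          congr 1
          refine (FreeAbelianGroup.lift_apply_of _ _).trans ?_
          rw [← h1]
          exact congr($((limitOverIso (G (hull F).X₂)).inv_hom_id) s)
      | succ q =>
        obtain ⟨t, ht⟩ := ih q (Nat.lt_succ_self q) (hull F).X₃ (fun U r => by
          have := hF U (r + 1)
          exact Cech.subsingleton_ext_quot) _ hgw
        choose s hs using fun i => hsur ((K _⦋q⦌).obj i).left (co i t)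
        refine ⟨(cxO K (hull F).X₂).d q (q + 1) (mk s),
          congr($((cxO K (hull F).X₂).d_comp_d q (q + 1) (q + 1 + 1)) (mk s)), ?_⟩
        rw [cxMap_d, ← ht]
        congr 1
        exact co_ext fun i => by rw [co_map, co_mk]; exact hs i
    choose v hv using fun i => Cech.app_exact hS ((K _⦋p⦌).obj i).left (co i (w - w₀)) (by
      have h := congrArg (co i) hg
      rw [co_map, co_map] at h
      change (hull F).g.hom.app _ (co i (w - w₀)) = 0
      rw [map_sub, map_sub]
      exact sub_eq_zero.2 h.symm)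
    refine ⟨mk v, co_ext fun i => Cech.app_injective hS ((K _⦋p + 1⦌).obj i).left ?_⟩
    have hfv : (cxOMap K (hull F).f).f p (mk v) = w - w₀ := co_ext fun i => by
      rw [co_map, co_mk]; exact hv i
    have h2 : (cxOMap K (hull F).f).f (p + 1) ((cxO K F).d p (p + 1) (mk v)) = (cxOMap K (hull F).f).f (p + 1) z := by
      rw [cxMap_d, hfv, map_sub, hd, sub_zero, hw]
    refine Eq.trans ?_ ((congrArg (co i) h2).trans (co_map _ i z))
    exact (co_map (((J.overPullback AddCommGrpCat.{u} X).map (hull F).f).hom) i _).symm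

theorem isZero_homology_of_acyclic (hX : LocFill (J.over X) (sps K)) (F : Sheaf J AddCommGrpCat.{u})
    (hF : ∀ (U : C) (q : ℕ), Subsingleton (Ext (fs J U) F (q + 1))) (p : ℕ) : IsZero ((cxO K F).homology (p + 1)) := by
  rw [← HomologicalComplex.exactAt_iff_isZero_homology,
    HomologicalComplex.exactAt_iff' _ p (p + 1) (p + 1 + 1) (by simp) (by simp), ShortComplex.ab_exact_iff]
  exact fun z hz => exists_eq_d hX p F hF z hz

end Groth.L10.Hyper
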