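import Groth.Agent.L10.Hyper.LocFill
import Groth.Prelude.Def_Hyper
import Mathlib.CategoryTheory.Limits.Types.Products
import Mathlib.CategoryTheory.Limits.FunctorCategory.Basic

/-! Hypercoverings give locally fillable simplicial presheaves. -/

universe u

open CategoryTheory CategoryTheory.Limits Opposite Simplicial

set_option backward.defeqAttrib.useBackward true
set_option backward.isDefEq.respectTransparency false
namespace Groth.L10.Hyper

variable {C : Type u} [SmallCategory C]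

/-- An element of a formal coproduct of representables. -/
noncomputable def pt {U : C} {Y : FormalCoproduct.{u} C} (w : (FormalCoproduct.incl C).obj U ⟶ Y) :
    (FormalCoproduct.yoneda.obj Y).obj (op U) :=
  (Sigma.ι (fun i => CategoryTheory.yoneda.obj (Y.obj i)) (w.f PUnit.unit)).app (op U) (w.φ PUnit.unit)

theorem pt_comp {U : C} {Y Z : FormalCoproduct.{u} C} (w : (FormalCoproduct.incl C).obj U ⟶ Y) (f : Y ⟶ Z) :
    (FormalCoproduct.yoneda.map f).app (op U) (pt w) = pt (w ≫ f) := by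
  change ((Sigma.ι (fun i => CategoryTheory.yoneda.obj (Y.obj i)) (w.f PUnit.unit)) ≫
    FormalCoproduct.yoneda.map f).app (op U) (w.φ PUnit.unit) = _
  rw [show (Sigma.ι (fun i => CategoryTheory.yoneda.obj (Y.obj i)) (w.f PUnit.unit)) ≫ FormalCoproduct.yoneda.map f =
    CategoryTheory.yoneda.map (f.φ (w.f PUnit.unit)) ≫
      Sigma.ι (fun i => CategoryTheory.yoneda.obj (Z.obj i)) (f.f (w.f PUnit.unit)) from Sigma.ι_desc _ _]
  rfl

theorem pt_res {U V : C} {Y : FormalCoproduct.{u} C} (w : (FormalCoproduct.incl C).obj U ⟶ Y) (g : V ⟶ U) :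
    (FormalCoproduct.yoneda.obj Y).map g.op (pt w) = pt ((FormalCoproduct.incl C).map g ≫ w) :=
  congr($((Sigma.ι (fun i => CategoryTheory.yoneda.obj (Y.obj i)) (w.f PUnit.unit)).naturality g.op) (w.φ PUnit.unit)).symm

/-- The presheaf of elements. -/
abbrev elts (Y : FormalCoproduct.{u} C) : Cᵒᵖ ⥤ Type u := (FormalCoproduct.incl C).op ⋙ CategoryTheory.yoneda.obj Y

/-- Reading an element. -/
noncomputable def readHom (Y : FormalCoproduct.{u} C) : FormalCoproduct.yoneda.obj Y ⟶ elts Y :=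
  Sigma.desc fun i =>
    ({ app := fun V => TypeCat.ofHom fun a => FormalCoproduct.Hom.fromIncl i a
       naturality := fun V W g => by ext a; rfl } : CategoryTheory.yoneda.obj (Y.obj i) ⟶ elts Y)

/-- Writing an element. -/
noncomputable def writeHom (Y : FormalCoproduct.{u} C) : elts Y ⟶ FormalCoproduct.yoneda.obj Y where
  app V := TypeCat.ofHom fun w => pt w
  naturality V W g := by
    ext w
    exact (pt_res w g.unop).symm

theorem readHom_writeHom (Y : FormalCoproduct.{u} C) : readHom Y ≫ writeHom Y = 𝟙 _ :=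
  Sigma.hom_ext _ _ fun i => by
    rw [readHom, Sigma.ι_desc_assoc]
    refine Eq.trans ?_ (Category.comp_id _).symm
    ext V a
    rfl

theorem readHom_pt {U : C} {Y : FormalCoproduct.{u} C} (w : (FormalCoproduct.incl C).obj U ⟶ Y) :
    (readHom Y).app (op U) (pt w) = w := by
  refine (congr($(congr_app (Sigma.ι_desc (f := fun i => CategoryTheory.yoneda.obj (Y.obj i)) _ (w.f PUnit.unit)) (op U))
    (w.φ PUnit.unit))).trans ?_
  exact FormalCoproduct.Hom.fromIncl_asSigma w

/-- Elements of a formal coproduct of representables. -/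
noncomputable def ptEquiv (U : C) (Y : FormalCoproduct.{u} C) :
    ((FormalCoproduct.incl C).obj U ⟶ Y) ≃ (FormalCoproduct.yoneda.obj Y).obj (op U) where
  toFun := pt
  invFun := (readHom Y).app (op U)
  left_inv := readHom_pt
  right_inv s := congr($(congr_app (readHom_writeHom Y) (op U)) s)

/-- The simplicial presheaf of a simplicial formal coproduct. -/
noncomputable abbrev sps (K : SimplicialObject (FormalCoproduct.{u} C)) : SimplicialObject (Cᵒᵖ ⥤ Type u) :=
  K ⋙ FormalCoproduct.yoneda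

variable {K : SimplicialObject (FormalCoproduct.{u} C)}

theorem face_pt {n : ℕ} {U : C} (j : Fin (n + 2)) (w : (FormalCoproduct.incl C).obj U ⟶ K _⦋n + 1⦌) :
    face (sps K) j (pt w) = pt (w ≫ K.δ j) := pt_comp w (K.δ j)

section

variable {n : ℕ} {U : C}

/-- The non-surjective maps to `[n+1]` together with a chosen factorisation. -/
theorem exists_factor {Δ : SimplexCategory} (hΔ : Δ.len ≤ n) (α : Δ ⟶ ⦋n + 1⦌) :
    ∃ (j : Fin (n + 2)) (β : Δ ⟶ ⦋n⦌), α = β ≫ SimplexCategory.δ j :=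
  SimplexCategory.eq_comp_δ_of_not_surjective α fun h => by
    have := Fintype.card_le_of_surjective _ h
    simp at this
    omega

/-- The value of a boundary on a map. -/
noncomputable def bdry (y : Fin (n + 2) → ((FormalCoproduct.incl C).obj U ⟶ K _⦋n⦌)) {Δ : SimplexCategory} (hΔ : Δ.len ≤ n)
    (α : Δ ⟶ ⦋n + 1⦌) : (FormalCoproduct.incl C).obj U ⟶ K.obj (op Δ) :=
  y (exists_factor hΔ α).choose ≫ K.map (exists_factor hΔ α).choose_spec.choose.op

/-- Compatibility of a boundary. -/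
def Compat (y : Fin (n + 2) → ((FormalCoproduct.incl C).obj U ⟶ K _⦋n⦌)) : Prop :=
  ∀ (m : ℕ) (e : n = m + 1) (i j : Fin (m + 2)), i ≤ j →
    (e ▸ y (Fin.cast (by omega) j.succ) : (FormalCoproduct.incl C).obj U ⟶ K _⦋m + 1⦌) ≫ K.δ i =
      (e ▸ y (Fin.cast (by omega) i.castSucc) : (FormalCoproduct.incl C).obj U ⟶ K _⦋m + 1⦌) ≫ K.δ j

theorem well_defined {y : Fin (n + 2) → ((FormalCoproduct.incl C).obj U ⟶ K _⦋n⦌)} (hy : Compat y) {Δ : SimplexCategory}
    {p q : Fin (n + 2)} (β : Δ ⟶ ⦋n⦌) (γ : Δ ⟶ ⦋n⦌) (h : β ≫ SimplexCategory.δ p = γ ≫ SimplexCategory.δ q) :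
    y p ≫ K.map β.op = y q ≫ K.map γ.op := by
  wlog hpq : p ≤ q generalizing p q β γ
  · exact (this γ β h.symm (le_of_not_ge hpq)).symm
  rcases eq_or_lt_of_le hpq with rfl | hlt
  · rw [(cancel_mono (SimplexCategory.δ p)).1 h]
  cases n with
  | zero =>
    exfalso
    have h0 := congrArg (fun t => t.toOrderHom 0) h
    simp only [SimplexCategory.comp_toOrderHom, OrderHom.comp_coe, Function.comp_apply] at h0
    have hb : β.toOrderHom 0 = 0 := Fin.ext (by have := (β.toOrderHom 0).isLt; simp at this ⊢)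
    have hc : γ.toOrderHom 0 = 0 := Fin.ext (by have := (γ.toOrderHom 0).isLt; simp at this ⊢)
    rw [hb, hc] at h0
    have hp : p = 0 := by
      have := hlt; have := q.isLt; exact Fin.ext (by simp; omega)
    have hq : q = 1 := by
      have := hlt; have := q.isLt; exact Fin.ext (by simp; omega)
    subst hp hq
    exact absurd h0 (by decide)
  | succ m =>
    obtain ⟨i, hi⟩ : ∃ i : Fin (m + 2), i.castSucc = p :=
      ⟨⟨p.1, by have := q.isLt; have := hlt; omega⟩, rfl⟩
    obtain ⟨j, hj⟩ : ∃ j : Fin (m + 2), j.succ = q :=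
      ⟨⟨q.1 - 1, by have := q.isLt; omega⟩, Fin.ext (by have := hlt; simp; omega)⟩
    subst hi hj
    have hij : i ≤ j := Fin.castSucc_lt_succ_iff.1 hlt
    -- `β` misses the position of `j`
    have hβ : ∀ x, β.toOrderHom x ≠ j := fun x hx => by
      have h0 := congrArg (fun t => t.toOrderHom x) h
      simp only [SimplexCategory.comp_toOrderHom, OrderHom.comp_coe, Function.comp_apply] at h0
      rw [hx] at h0
      change i.castSucc.succAbove j = j.succ.succAbove (γ.toOrderHom x) at h0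
      rw [Fin.succAbove_of_le_castSucc _ _ (Fin.castSucc_le_castSucc_iff.2 hij)] at h0
      exact Fin.succAbove_ne _ _ h0.symm
    obtain ⟨θ, rfl⟩ := SimplexCategory.eq_comp_δ_of_not_surjective' β j hβ
    rw [Category.assoc, ← SimplexCategory.δ_comp_δ hij, ← Category.assoc, cancel_mono] at h
    subst h
    rw [op_comp, op_comp, Functor.map_comp, Functor.map_comp, ← Category.assoc, ← Category.assoc]
    exact congrArg (· ≫ K.map θ.op) (hy m rfl i j hij).symm

theorem bdry_δ {y : Fin (n + 2) → ((FormalCoproduct.incl C).obj U ⟶ K _⦋n⦌)} (hy : Compat y) (j : Fin (n + 2)) :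
    bdry (Δ := ⦋n⦌) y (by simp) (SimplexCategory.δ j) = y j := by
  have := well_defined hy (exists_factor (Δ := ⦋n⦌) (by simp) (SimplexCategory.δ j)).choose_spec.choose (𝟙 _)
    (q := j) ((exists_factor (Δ := ⦋n⦌) (by simp) (SimplexCategory.δ j)).choose_spec.choose_spec.symm.trans (Category.id_comp _).symm)
  simpa [bdry] using this

theorem bdry_comp {y : Fin (n + 2) → ((FormalCoproduct.incl C).obj U ⟶ K _⦋n⦌)} (hy : Compat y) {Δ Δ' : SimplexCategory}
    (hΔ : Δ.len ≤ n) (hΔ' : Δ'.len ≤ n) (θ : Δ' ⟶ Δ) (α : Δ ⟶ ⦋n + 1⦌) :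
    bdry y hΔ α ≫ K.map θ.op = bdry y hΔ' (θ ≫ α) := by
  have := well_defined hy (θ ≫ (exists_factor hΔ α).choose_spec.choose)
    (exists_factor hΔ' (θ ≫ α)).choose_spec.choose (by
      rw [Category.assoc, ← (exists_factor hΔ α).choose_spec.choose_spec]
      exact (exists_factor hΔ' (θ ≫ α)).choose_spec.choose_spec)
  simpa [bdry] using this

/-- The constant simplicial simplex on `U`. -/
def simplexObj (n : ℕ) (U : C) : SimplicialObject (FormalCoproduct.{u} C) where
  obj Δ := ⟨ULift.{u} (Δ.unop ⟶ ⦋n + 1⦌), fun _ => U⟩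
  map θ := ⟨fun α => ⟨θ.unop ≫ α.down⟩, fun _ => 𝟙 U⟩
  map_id Δ := FormalCoproduct.hom_ext (funext fun α => by simp [FormalCoproduct.category]) fun α => by simp
  map_comp θ θ' := FormalCoproduct.hom_ext (funext fun α => by simp [FormalCoproduct.category]) fun α => by simp

theorem simplexObj_incl {Y : FormalCoproduct.{u} C} (f g : (simplexObj n U).obj (op ⦋n⦌) ⟶ Y)
    (h : ∀ α, FormalCoproduct.Hom.fromIncl α (𝟙 U) ≫ f = FormalCoproduct.Hom.fromIncl α (𝟙 U) ≫ g) : f = g := by
  rw [FormalCoproduct.hom_ext_iff']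
  intro α
  obtain ⟨h₁, h₂⟩ := (FormalCoproduct.hom_ext_iff' _ _).1 (h α) PUnit.unit
  exact ⟨h₁, by simpa using h₂⟩

theorem exists_lift_of_unit [∀ (F : (SimplexCategory.Truncated n)ᵒᵖ ⥤ FormalCoproduct.{u} C),
      (SimplexCategory.Truncated.inclusion n).op.HasRightKanExtension F]
    (J : GrothendieckTopology C)
    (hcov : Presheaf.IsLocallySurjective J
      (FormalCoproduct.yoneda.map (((SimplicialObject.coskAdj n).unit.app K).app (op ⦋n + 1⦌))))
    {y : Fin (n + 2) → ((FormalCoproduct.incl C).obj U ⟶ K _⦋n⦌)} (hy : Compat y) :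
    ∃ S ∈ J U, ∀ ⦃V⦄ (g : V ⟶ U), S g → ∃ w : (FormalCoproduct.incl C).obj V ⟶ K _⦋n + 1⦌,
      ∀ j, w ≫ K.δ j = (FormalCoproduct.incl C).map g ≫ y j := by
  let T := simplexObj n U
  let φ : (SimplicialObject.truncation n).obj T ⟶ (SimplicialObject.truncation n).obj K :=
    { app := fun Δ =>
        ⟨fun α => (bdry y Δ.unop.property α.down).f PUnit.unit, fun α => (bdry y Δ.unop.property α.down).φ PUnit.unit⟩
      naturality := fun Δ Δ' θ => by
        rw [FormalCoproduct.hom_ext_iff']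
        intro α
        have h := bdry_comp hy Δ.unop.property Δ'.unop.property θ.unop.hom α.down
        obtain ⟨h₁, h₂⟩ := (FormalCoproduct.hom_ext_iff' _ _).1 h.symm PUnit.unit
        refine ⟨h₁, Eq.trans ?_ h₂⟩
        exact congrArg (· ≫ _) (Category.id_comp _) }
  let L := (SimplicialObject.Truncated.cosk n).obj ((SimplicialObject.truncation n).obj K)
  let ψ : T ⟶ L := (SimplicialObject.coskAdj n).homEquiv T _ φ
  let top : (FormalCoproduct.incl C).obj U ⟶ T.obj (op ⦋n + 1⦌) := FormalCoproduct.Hom.fromIncl ⟨𝟙 _⟩ (𝟙 U)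
  let e : (FormalCoproduct.incl C).obj U ⟶ L.obj (op ⦋n + 1⦌) := top ≫ ψ.app (op ⦋n + 1⦌)
  refine ⟨Presheaf.imageSieve (FormalCoproduct.yoneda.map (((SimplicialObject.coskAdj n).unit.app K).app (op ⦋n + 1⦌))) (pt e), hcov.imageSieve_mem _, ?_⟩
  rintro V g ⟨s, hs⟩
  obtain ⟨w, rfl⟩ := (ptEquiv V _).surjective s
  refine ⟨w, fun j => ?_⟩
  have h1 : w ≫ ((SimplicialObject.coskAdj n).unit.app K).app (op ⦋n + 1⦌) = (FormalCoproduct.incl C).map g ≫ e := by
    refine (ptEquiv V _).injective ?_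
    exact (pt_comp w _).symm.trans (hs.trans (pt_res e g))
  let o : (SimplexCategory.Truncated n)ᵒᵖ := op ⟨⦋n⦌, by simp⟩
  have h2 := (h1 =≫ L.map (SimplexCategory.δ j).op) =≫ ((SimplicialObject.coskAdj n).counit.app ((SimplicialObject.truncation n).obj K)).app o
  simp only [Category.assoc] at h2
  have hη : ((SimplicialObject.coskAdj n).unit.app K).app (op ⦋n + 1⦌) ≫ L.map (SimplexCategory.δ j).op =
      K.δ j ≫ ((SimplicialObject.coskAdj n).unit.app K).app (op ⦋n⦌) :=
    (((SimplicialObject.coskAdj n).unit.app K).naturality (SimplexCategory.δ j).op).symm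
  have htri : ((SimplicialObject.coskAdj n).unit.app K).app (op ⦋n⦌) ≫
      ((SimplicialObject.coskAdj n).counit.app _).app o = 𝟙 _ :=
    congr_app ((SimplicialObject.coskAdj n).left_triangle_components K) o
  have hψ : ψ.app (op ⦋n⦌) ≫ ((SimplicialObject.coskAdj n).counit.app _).app o = φ.app o := by
    have h := congr_app (((SimplicialObject.coskAdj n).homEquiv_counit T _ ψ).symm.trans
      (((SimplicialObject.coskAdj n).homEquiv T _).symm_apply_apply φ)) o
    exact h
  have hnat : ψ.app (op ⦋n + 1⦌) ≫ L.map (SimplexCategory.δ j).op =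
      T.map (SimplexCategory.δ j).op ≫ ψ.app (op ⦋n⦌) := (ψ.naturality _).symm
  rw [reassoc_of% hη, htri] at h2
  refine ((congrArg (w ≫ ·) (Category.comp_id (K.δ j))).symm.trans h2).trans ?_
  simp only [e, Category.assoc]
  rw [reassoc_of% hnat, hψ]
  congr 1
  refine Eq.trans ?_ (bdry_δ hy j)
  change top ≫ T.map (SimplexCategory.δ j).op ≫ φ.app o = _
  rw [FormalCoproduct.hom_ext_iff']
  intro x
  refine ⟨?_, ?_⟩
  · simp [T, top, φ, simplexObj, o, FormalCoproduct.category]
    rfl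
  · simp [T, top, φ, simplexObj, o]
    cases x
    rfl

theorem locFill_of_unit [∀ (n : ℕ) (F : (SimplexCategory.Truncated n)ᵒᵖ ⥤ FormalCoproduct.{u} C),
      (SimplexCategory.Truncated.inclusion n).op.HasRightKanExtension F]
    (J : GrothendieckTopology C) (K : SimplicialObject (FormalCoproduct.{u} C))
    (h0 : ∀ U : C, ∃ S ∈ J U, ∀ ⦃V⦄ (g : V ⟶ U), S g → Nonempty ((FormalCoproduct.incl C).obj V ⟶ K _⦋0⦌))
    (hfill : ∀ (n : ℕ) (U : C) (y : Fin (n + 2) → ((FormalCoproduct.incl C).obj U ⟶ K _⦋n⦌)), Compat y →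
      ∃ S ∈ J U, ∀ ⦃V⦄ (g : V ⟶ U), S g → ∃ w : (FormalCoproduct.incl C).obj V ⟶ K _⦋n + 1⦌,
        ∀ j, w ≫ K.δ j = (FormalCoproduct.incl C).map g ≫ y j) :
    LocFill J (sps K) where
  vertex U := by
    obtain ⟨S, hS, h⟩ := h0 U
    exact ⟨S, hS, fun V g hg => (h g hg).map pt⟩
  fill n U y hy := by
    choose y' hy' using fun j => (ptEquiv U (K _⦋n⦌)).surjective (y j)
    have hy'' : Compat y' := by
      rintro m rfl i j hij
      refine (ptEquiv U _).injective ?_
      have h := hy m rfl i j hij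
      simp only [Fin.cast_refl, id_eq] at h ⊢
      rw [← hy', ← hy'] at h
      exact (face_pt i _).symm.trans (h.trans (face_pt j _))
    obtain ⟨S, hS, h⟩ := hfill n U y' hy''
    refine ⟨S, hS, fun V g hg => ?_⟩
    obtain ⟨w, hw⟩ := h g hg
    exact ⟨pt w, fun j => (face_pt j w).trans (by rw [hw j, ← hy' j]; exact (pt_res (y' j) g).symm)⟩

end

end Groth.L10.Hyper
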