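import Groth.Agent.L10.Hyper.Boundary
import Mathlib.CategoryTheory.Sites.Over

/-! Both kinds of hypercoverings are locally fillable. -/

universe u

open CategoryTheory CategoryTheory.Limits Opposite Simplicial

set_option backward.defeqAttrib.useBackward true
set_option backward.isDefEq.respectTransparency false
namespace Groth.L10.Hyper

variable {C : Type u} [SmallCategory C]

theorem pt_eq_iff {U : C} {Y : FormalCoproduct.{u} C} {a b : (FormalCoproduct.incl C).obj U ⟶ Y}
    (h : pt a = pt b) : a = b := (ptEquiv U Y).injective h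

theorem fill_zero (J : GrothendieckTopology C) (K : SimplicialObject (FormalCoproduct.{u} C))
    (h1 : Presheaf.IsLocallySurjective J
      (prod.lift (FormalCoproduct.yoneda.map (K.δ (1 : Fin 2))) (FormalCoproduct.yoneda.map (K.δ (0 : Fin 2)))))
    (U : C) (y : Fin (0 + 2) → ((FormalCoproduct.incl C).obj U ⟶ K _⦋0⦌)) :
    ∃ S ∈ J U, ∀ ⦃V⦄ (g : V ⟶ U), S g → ∃ w : (FormalCoproduct.incl C).obj V ⟶ K _⦋0 + 1⦌,
      ∀ j, w ≫ K.δ j = (FormalCoproduct.incl C).map g ≫ y j := by
  let m : CategoryTheory.yoneda.obj U ⟶ FormalCoproduct.yoneda.obj (K _⦋0⦌) ⨯ FormalCoproduct.yoneda.obj (K _⦋0⦌) :=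
    prod.lift (yonedaEquiv.symm (pt (y 1))) (yonedaEquiv.symm (pt (y 0)))
  let e := m.app (op U) (𝟙 U)
  refine ⟨_, h1.imageSieve_mem e, ?_⟩
  rintro V g ⟨s, hs⟩
  obtain ⟨w, rfl⟩ := (ptEquiv V _).surjective s
  refine ⟨w, fun j => pt_eq_iff ?_⟩
  rw [← pt_comp, ← pt_res]
  have hmg : (FormalCoproduct.yoneda.obj (K _⦋0⦌) ⨯ FormalCoproduct.yoneda.obj (K _⦋0⦌)).map g.op e = m.app (op V) g := by
    refine (congr($(m.naturality g.op) (𝟙 U))).symm.trans ?_
    exact congrArg (fun t => m.app (op V) t) (Category.comp_id g)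
  have key : ∀ (p : FormalCoproduct.yoneda.obj (K _⦋0⦌) ⨯ FormalCoproduct.yoneda.obj (K _⦋0⦌) ⟶ FormalCoproduct.yoneda.obj (K _⦋0⦌)),
      (prod.lift (FormalCoproduct.yoneda.map (K.δ (1 : Fin 2))) (FormalCoproduct.yoneda.map (K.δ (0 : Fin 2))) ≫ p).app (op V) (pt w) =
        (m ≫ p).app (op V) g := fun p => congrArg (fun t => p.app (op V) t) (hs.trans hmg)
  match j with
  | 0 =>
    have := key prod.snd
    simp only [prod.lift_snd, m] at this
    refine this.trans ?_
    simp [yonedaEquiv]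
  | 1 =>
    have := key prod.fst
    simp only [prod.lift_fst, m] at this
    refine this.trans ?_
    simp [yonedaEquiv]

theorem vertex_of_terminal (J : GrothendieckTopology C) (Y : FormalCoproduct.{u} C)
    (h0 : Presheaf.IsLocallySurjective J (terminal.from (FormalCoproduct.yoneda.obj Y))) (U : C) :
    ∃ S ∈ J U, ∀ ⦃V⦄ (g : V ⟶ U), S g → Nonempty ((FormalCoproduct.incl C).obj V ⟶ Y) := by
  refine ⟨_, h0.imageSieve_mem ((terminal.from (CategoryTheory.yoneda.obj U)).app (op U) (𝟙 U)), ?_⟩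
  rintro V g ⟨s, -⟩
  exact ⟨(readHom Y).app (op V) s⟩

theorem locFill_of_isHypercoveringSite (J : GrothendieckTopology C) (K : SimplicialObject (FormalCoproduct.{u} C))
    [∀ (n : ℕ) (F : (SimplexCategory.Truncated n)ᵒᵖ ⥤ Limits.FormalCoproduct.{u} C),
      (SimplexCategory.Truncated.inclusion n).op.HasRightKanExtension F]
    (hK : _root_.Hyper.IsHypercoveringSite J K) : LocFill J (sps K) := by
  refine locFill_of_unit J K (fun U => vertex_of_terminal J _ hK.1 U) fun n U y hy => ?_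
  cases n with
  | zero => exact fill_zero J K hK.2.1 U y
  | succ n => exact exists_lift_of_unit J (hK.2.2 (n + 1) (by omega)) hy

theorem isLocallySurjective_of_isSRCovering (J : GrothendieckTopology C) {K L : FormalCoproduct.{u} C} (f : K ⟶ L)
    (hf : _root_.Hyper.IsSRCovering J f) : Presheaf.IsLocallySurjective J (FormalCoproduct.yoneda.map f) := ⟨fun {U} s => by
  obtain ⟨w, rfl⟩ := (ptEquiv U L).surjective s
  refine J.superset_covering ?_ (J.pullback_stable (w.φ PUnit.unit) (hf (w.f PUnit.unit)))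
  rintro V g ⟨W, q, _, ⟨⟨i, hi⟩⟩, hq⟩
  refine ⟨pt (FormalCoproduct.Hom.fromIncl i q), (pt_comp _ _).trans (Eq.trans ?_ (pt_res w g).symm)⟩
  congr 1
  rw [FormalCoproduct.hom_ext_iff']
  intro x
  refine ⟨hi, ?_⟩
  simpa [Category.assoc] using hq⟩

theorem locFill_of_isHypercovering [HasPullbacks C] (J : GrothendieckTopology C) (X : C)
    (K : SimplicialObject (FormalCoproduct.{u} (Over X)))
    [∀ (n : ℕ) (F : (SimplexCategory.Truncated n)ᵒᵖ ⥤ Limits.FormalCoproduct.{u} (Over X)),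
      (SimplexCategory.Truncated.inclusion n).op.HasRightKanExtension F]
    (hK : _root_.Hyper.IsHypercovering J X K) : LocFill (J.over X) (sps K) := by
  refine locFill_of_unit _ K (fun U => ?_) fun n U y hy =>
    exists_lift_of_unit _ (isLocallySurjective_of_isSRCovering _ _ (hK.2 n)) hy
  refine ⟨(Sieve.overEquiv U).symm ((Sieve.ofArrows (fun i => ((K _⦋0⦌).obj i).left) (fun i => ((K _⦋0⦌).obj i).hom)).pullback U.hom), ?_, ?_⟩
  · exact GrothendieckTopology.overEquiv_symm_mem_over J U _ (J.pullback_stable U.hom hK.1)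
  · intro V g hg
    rw [Sieve.overEquiv_symm_iff] at hg
    obtain ⟨W, q, _, ⟨i⟩, hq⟩ := hg
    have hq' : q ≫ ((K _⦋0⦌).obj i).hom = V.hom := hq.trans (Over.w g)
    exact ⟨FormalCoproduct.Hom.fromIncl i (Over.homMk q hq')⟩

end Groth.L10.Hyper
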