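import Groth.Agent.L10.Hyper.LocFill
import Mathlib.CategoryTheory.Sites.EpiMono
import Mathlib.CategoryTheory.Sites.Abelian
import Mathlib.CategoryTheory.Sites.LeftExact
import Mathlib.CategoryTheory.Sites.LocallyBijective
import Mathlib.Algebra.Category.Grp.Abelian
import Mathlib.Algebra.Category.Grp.Limits
import Mathlib.Algebra.Category.Grp.Colimits
import Mathlib.Algebra.Category.Grp.FilteredColimits
import Mathlib.Algebra.Homology.ShortComplex.Ab
import Mathlib.Algebra.Homology.ShortComplex.HomologicalComplex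
import Mathlib.CategoryTheory.Abelian.FunctorCategory
import Mathlib.CategoryTheory.Sites.ConstantSheaf

/-! The sheafified free complex of a locally fillable simplicial presheaf of sets. -/

universe u

open CategoryTheory CategoryTheory.Limits Opposite Simplicial AlgebraicTopology

set_option backward.defeqAttrib.useBackward true
set_option backward.isDefEq.respectTransparency false
namespace Groth.L10.Hyper

variable {C : Type u} [SmallCategory C] {J : GrothendieckTopology C}

/-- A locally exact complex of presheaves becomes exact after sheafification. -/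
theorem exact_map_of_locally_exact (S : ShortComplex (Cᵒᵖ ⥤ AddCommGrpCat.{u}))
    (h : ∀ (U : C) (z : S.X₂.obj (op U)), S.g.app (op U) z = 0 →
      ∃ R ∈ J U, ∀ ⦃V⦄ (g : V ⟶ U), R g → ∃ w : S.X₁.obj (op V), S.f.app (op V) w = S.X₂.map g.op z) :
    (S.map (presheafToSheaf J AddCommGrpCat.{u})).Exact := by
  let a := presheafToSheaf J AddCommGrpCat.{u}
  let l := kernel.lift S.g S.f S.zero
  have : Presheaf.IsLocallySurjective J l := ⟨fun {U} s => by
    have hz : S.g.app (op U) ((kernel.ι S.g).app (op U) s) = 0 :=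
      congr(($(kernel.condition S.g)).app (op U) s)
    obtain ⟨R, hR, hw⟩ := h U _ hz
    refine J.superset_covering (fun V g hg => ?_) hR
    obtain ⟨w, hw'⟩ := hw g hg
    refine ⟨w, ?_⟩
    have hi : Function.Injective ((kernel.ι S.g).app (op V)) := (AddCommGrpCat.mono_iff_injective _).1 inferInstance
    refine hi ?_
    refine (congr($(congr_app (kernel.lift_ι S.g S.f S.zero) (op V)) w)).trans (hw'.trans ?_)
    exact congr($((kernel.ι S.g).naturality g.op) s).symm⟩
  have : Sheaf.IsLocallySurjective (a.map l) := (Presheaf.isLocallySurjective_presheafToSheaf_map_iff J l).2 ‹_›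
  have : Epi (a.map l) := inferInstance
  have hk : ((ShortComplex.mk (kernel.ι S.g) S.g (kernel.condition _)).map a).Exact :=
    (ShortComplex.exact_of_f_is_kernel _ (kernelIsKernel S.g)).map a
  let φ : S.map a ⟶ (ShortComplex.mk (kernel.ι S.g) S.g (kernel.condition _)).map a :=
    { τ₁ := a.map l, τ₂ := 𝟙 _, τ₃ := 𝟙 _
      comm₁₂ := by simp [l, ← Functor.map_comp] }
  have : Epi φ.τ₁ := ‹_›
  have : IsIso φ.τ₂ := inferInstanceAs (IsIso (𝟙 _))
  have : Mono φ.τ₃ := inferInstanceAs (Mono (𝟙 _))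
  exact (ShortComplex.exact_iff_of_epi_of_isIso_of_mono φ).2 hk

variable (X : SimplicialObject (Cᵒᵖ ⥤ Type u))

/-- The free simplicial presheaf of abelian groups. -/
noncomputable abbrev freeP : SimplicialObject (Cᵒᵖ ⥤ AddCommGrpCat.{u}) :=
  X ⋙ (Functor.whiskeringRight _ _ _).obj AddCommGrpCat.free.{u}

/-- The sheafified free complex. -/
noncomputable abbrev freeCx (J : GrothendieckTopology C) : ChainComplex (Sheaf J AddCommGrpCat.{u}) ℕ :=
  (alternatingFaceMapComplex _).obj (freeP X ⋙ presheafToSheaf J AddCommGrpCat.{u})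

/-- The differential of free presheaves. -/
noncomputable abbrev dP (n : ℕ) : (freeP X) _⦋n + 1⦌ ⟶ (freeP X) _⦋n⦌ :=
  ∑ i : Fin (n + 2), (-1 : ℤ) ^ (i : ℕ) • (freeP X).δ i

theorem freeCx_d (n : ℕ) : (freeCx X J).d (n + 1) n = (presheafToSheaf J AddCommGrpCat.{u}).map (dP X n) := by
  rw [dP, Functor.map_sum]
  refine (AlternatingFaceMapComplex.obj_d_eq _ _).trans (Finset.sum_congr rfl fun i _ => ?_)
  rw [Functor.map_zsmul]
  rfl

theorem dP_app (n : ℕ) (U : C) (z : FreeAbelianGroup (Sec X (n + 1) U)) :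
    (dP X n).app (op U) z = freeD n U z := by
  have : (dP X n).app (op U) = AddCommGrpCat.ofHom (freeD (X := X) n U) := by
    refine AddCommGrpCat.hom_ext (FreeAbelianGroup.lift_ext _ _ fun x => ?_)
    refine Eq.trans ?_ (freeD_of n U x).symm
    let E : ((freeP X) _⦋n + 1⦌ ⟶ (freeP X) _⦋n⦌) →+ FreeAbelianGroup (Sec X n U) :=
      AddMonoidHom.mk' (fun t => t.app (op U) (FreeAbelianGroup.of x)) (fun a b => rfl)
    refine (map_sum E _ _).trans (Finset.sum_congr rfl fun j _ => ?_)
    rw [map_zsmul]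
    exact congrArg ((-1 : ℤ) ^ (j : ℕ) • ·) (FreeAbelianGroup.map_of_apply (f := fun a => face X j a) x)
  rw [this]
  rfl

/-- The augmentation to the constant presheaf. -/
noncomputable def augP : (freeP X) _⦋0⦌ ⟶ (Functor.const Cᵒᵖ).obj (AddCommGrpCat.free.obj PUnit.{u + 1}) where
  app U := AddCommGrpCat.ofHom (FreeAbelianGroup.map fun _ => PUnit.unit)
  naturality U V f := by
    refine AddCommGrpCat.hom_ext (FreeAbelianGroup.lift_ext _ _ fun x => ?_)
    rfl

theorem augP_app (U : C) (z : FreeAbelianGroup (Sec X 0 U)) : (augP X).app (op U) z = freeAug U z := rfl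

theorem dP_augP : dP X 0 ≫ augP X = 0 := by
  refine NatTrans.ext (funext fun U => AddCommGrpCat.hom_ext (FreeAbelianGroup.lift_ext _ _ fun x => ?_))
  obtain ⟨U⟩ := U
  change (augP X).app (op U) ((dP X 0).app (op U) (FreeAbelianGroup.of x)) = 0
  rw [augP_app, dP_app, freeD_of]
  simp [freeAug, Fin.sum_univ_succ]

variable {X}

theorem isZero_homology_succ (hX : LocFill J X) (n : ℕ) : IsZero ((freeCx X J).homology (n + 1)) := by
  rw [← HomologicalComplex.exactAt_iff_isZero_homology,
    HomologicalComplex.exactAt_iff' _ (n + 1 + 1) (n + 1) n (by simp) (by simp)]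
  have hdd : dP X (n + 1) ≫ dP X n = 0 := AlternatingFaceMapComplex.d_squared (freeP X) n
  refine (ShortComplex.exact_iff_of_iso ?_).1
    (exact_map_of_locally_exact (J := J) (ShortComplex.mk (dP X (n + 1)) (dP X n) hdd) fun U z hz => ?_)
  · exact ShortComplex.isoMk (Iso.refl _) (Iso.refl _) (Iso.refl _)
      ((Category.id_comp _).trans ((freeCx_d X (n + 1)).trans (Category.comp_id _).symm))
      ((Category.id_comp _).trans ((freeCx_d X n).trans (Category.comp_id _).symm))
  · obtain ⟨R, hR, hw⟩ := exists_local_boundary hX n U z ((dP_app X n U z).symm.trans hz)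
    refine ⟨R, hR, fun V g hg => ?_⟩
    obtain ⟨w, hw'⟩ := hw g hg
    exact ⟨w, (dP_app X (n + 1) V w).trans hw'⟩

theorem aug_exact (hX : LocFill J X) :
    ((ShortComplex.mk (dP X 0) (augP X) (dP_augP X)).map (presheafToSheaf J AddCommGrpCat.{u})).Exact :=
  exact_map_of_locally_exact (J := J) _ fun U z hz => by
    obtain ⟨R, hR, hw⟩ := exists_local_boundary_zero hX U z ((augP_app X U z).symm.trans hz)
    refine ⟨R, hR, fun V g hg => ?_⟩
    obtain ⟨w, hw'⟩ := hw g hg
    exact ⟨w, (dP_app X 0 V w).trans hw'⟩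

theorem aug_epi (hX : LocFill J X) : Epi ((presheafToSheaf J AddCommGrpCat.{u}).map (augP X)) := by
  have : Presheaf.IsLocallySurjective J (augP X) := ⟨fun {U} s => by
    obtain ⟨R, hR, hw⟩ := exists_local_aug hX U s
    refine J.superset_covering (fun V g hg => ?_) hR
    obtain ⟨w, hw'⟩ := hw g hg
    exact ⟨w, (augP_app X V w).trans hw'⟩⟩
  have : Sheaf.IsLocallySurjective ((presheafToSheaf J AddCommGrpCat.{u}).map (augP X)) :=
    (Presheaf.isLocallySurjective_presheafToSheaf_map_iff J (augP X)).2 this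
  infer_instance

theorem nonempty_homology_zero (hX : LocFill J X) :
    Nonempty ((freeCx X J).homology 0 ≅ (presheafToSheaf J AddCommGrpCat.{u}).obj
      ((Functor.const Cᵒᵖ).obj (AddCommGrpCat.free.obj PUnit.{u + 1}))) := by
  let S := (ShortComplex.mk (dP X 0) (augP X) (dP_augP X)).map (presheafToSheaf J AddCommGrpCat.{u})
  have hex : S.Exact := aug_exact hX
  have : Epi S.g := aug_epi hX
  have w : (freeCx X J).d 1 0 ≫ S.g = 0 := by rw [freeCx_d]; exact S.zero
  have hex' : (ShortComplex.mk _ _ w).Exact :=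
    (ShortComplex.exact_iff_of_iso (ShortComplex.isoMk (S₁ := S) (S₂ := ShortComplex.mk _ _ w) (Iso.refl _) (Iso.refl _) (Iso.refl _)
      ((Category.id_comp _).trans ((freeCx_d X 0).trans (Category.comp_id _).symm))
      ((Category.id_comp _).trans (Category.comp_id _).symm))).1 hex
  have : Epi (ShortComplex.mk _ _ w).g := ‹Epi S.g›
  exact ⟨(freeCx X J).isoHomologyι₀ ≪≫
    ((freeCx X J).opcyclesIsCokernel 1 0 (by simp)).coconePointUniqueUpToIso hex'.gIsCokernel⟩

theorem nonempty_free_punit_iso : Nonempty ((presheafToSheaf J AddCommGrpCat.{u}).obj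
      ((Functor.const Cᵒᵖ).obj (AddCommGrpCat.free.obj PUnit.{u + 1})) ≅
    (constantSheaf J AddCommGrpCat.{u}).obj (AddCommGrpCat.of (ULift.{u} ℤ))) :=
  ⟨(presheafToSheaf J AddCommGrpCat.{u}).mapIso ((Functor.const Cᵒᵖ).mapIso
    (AddEquiv.toAddCommGrpIso (X := AddCommGrpCat.free.obj PUnit.{u + 1}) (Y := AddCommGrpCat.of (ULift.{u} ℤ))
      ((FreeAbelianGroup.uniqueEquiv PUnit.{u + 1}).trans AddEquiv.ulift.symm)))⟩

end Groth.L10.Hyper
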