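import Groth.Agent.L10.Hyper.Cases
import Groth.Agent.L10.Hyper.Sheafify
import Mathlib.CategoryTheory.Limits.Shapes.ConcreteCategory
import Mathlib.CategoryTheory.Sites.SheafCohomology.Cech
import Mathlib.CategoryTheory.Preadditive.Injective.Basic
import Mathlib.CategoryTheory.Sites.Limits

/-! The Čech complex of a presheaf is the complex of maps out of the free simplicial presheaf. -/

universe u

open CategoryTheory CategoryTheory.Limits Opposite Simplicial AlgebraicTopology

set_option backward.defeqAttrib.useBackward true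
set_option backward.isDefEq.respectTransparency false
namespace Groth.L10.Hyper

variable {C : Type u} [SmallCategory C] {K : SimplicialObject (FormalCoproduct.{u} C)}
  {P : Cᵒᵖ ⥤ AddCommGrpCat.{u}} {n : ℕ}

/-- The Čech complex. -/
noncomputable abbrev cx (K : SimplicialObject (FormalCoproduct.{u} C)) (P : Cᵒᵖ ⥤ AddCommGrpCat.{u}) :
    CochainComplex AddCommGrpCat.{u} ℕ :=
  (FormalCoproduct.cochainComplexFunctor K).obj P

/-- The coordinate of a cochain. -/
noncomputable def co (i : (K _⦋n⦌).I) : ((cx K P).X n : Type u) →+ P.obj (op ((K _⦋n⦌).obj i)) :=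
  (Pi.π (fun i : (K _⦋n⦌).I => P.obj (op ((K _⦋n⦌).obj i))) i).hom

/-- Constructor for cochains. -/
noncomputable def mk (x : ∀ i : (K _⦋n⦌).I, P.obj (op ((K _⦋n⦌).obj i))) : (cx K P).X n :=
  (Concrete.productEquiv (fun i : (K _⦋n⦌).I => P.obj (op ((K _⦋n⦌).obj i)))).symm x

theorem co_mk (x : ∀ i : (K _⦋n⦌).I, P.obj (op ((K _⦋n⦌).obj i))) (i : (K _⦋n⦌).I) : co i (mk x) = x i :=
  Concrete.productEquiv_symm_apply_π _ _ _

theorem co_ext {x y : (cx K P).X n} (h : ∀ i, co i x = co i y) : x = y :=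
  (Concrete.productEquiv (fun i : (K _⦋n⦌).I => P.obj (op ((K _⦋n⦌).obj i)))).injective
    (funext fun i => (Concrete.productEquiv_apply_apply _ x i).trans ((h i).trans (Concrete.productEquiv_apply_apply _ y i).symm))

theorem co_d (i : (K _⦋n + 1⦌).I) (x : (cx K P).X n) :
    co i ((cx K P).d n (n + 1) x) =
      ∑ j : Fin (n + 2), (-1 : ℤ) ^ (j : ℕ) • P.map ((K.δ j).φ i).op (co ((K.δ j).f i) x) := by
  let Z : CosimplicialObject AddCommGrpCat.{u} := (FormalCoproduct.cosimplicialObjectFunctor K).obj P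
  have h : ∀ j : Fin (n + 2), co i (Z.δ j x) = P.map ((K.δ j).φ i).op (co ((K.δ j).f i) x) := fun j => by
    change ((Z.δ j) ≫ Pi.π (fun i : (K _⦋n + 1⦌).I => P.obj (op ((K _⦋n + 1⦌).obj i))) i) x = _
    simp [Z, CosimplicialObject.δ]
    rfl
  have hd : (cx K P).d n (n+1) = AlgebraicTopology.AlternatingCofaceMapComplex.objD Z n :=
    @CochainComplex.of_d AddCommGrpCat.{u} _ _ ℕ _ _ _ (fun m : ℕ => (Z.obj (SimplexCategory.mk m) : AddCommGrpCat.{u})) (AlgebraicTopology.AlternatingCofaceMapComplex.objD Z) n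
  rw [hd, AlgebraicTopology.AlternatingCofaceMapComplex.objD]
  change co i ((AddCommGrpCat.homAddEquiv (∑ j : Fin (n+2), (-1 : ℤ) ^ (j : ℕ) • Z.δ j)) x) = _
  simp only [map_sum, map_zsmul, AddMonoidHom.finsetSum_apply, AddMonoidHom.smul_apply]
  exact Finset.sum_congr rfl fun j _ => congrArg _ (h j)

/-- The canonical element of an index. -/
noncomputable abbrev gen {Y : FormalCoproduct.{u} C} (i : Y.I) : (FormalCoproduct.yoneda.obj Y).obj (op (Y.obj i)) :=
  pt (FormalCoproduct.Hom.fromIncl i (𝟙 _))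

theorem pt_eq_map_gen {U : C} {Y : FormalCoproduct.{u} C} (w : (FormalCoproduct.incl C).obj U ⟶ Y) :
    pt w = (FormalCoproduct.yoneda.obj Y).map (w.φ PUnit.unit).op (gen (w.f PUnit.unit)) := by
  rw [pt_res]
  congr 1
  rw [FormalCoproduct.hom_ext_iff']
  intro x
  refine ⟨rfl, ?_⟩
  simp
  rfl

/-- The map of free presheaves given by a cochain. -/
noncomputable def ofCochain (x : (cx K P).X n) : (freeP (sps K)) _⦋n⦌ ⟶ P where
  app U := AddCommGrpCat.ofHom (FreeAbelianGroup.lift fun s =>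
    P.map (((readHom (K _⦋n⦌)).app U s).φ PUnit.unit).op (co (((readHom (K _⦋n⦌)).app U s).f PUnit.unit) x))
  naturality U V g := by
    refine AddCommGrpCat.hom_ext (FreeAbelianGroup.lift_ext _ _ fun s => ?_)
    obtain ⟨w, rfl⟩ := (ptEquiv U.unop (K _⦋n⦌)).surjective s
    change FreeAbelianGroup.lift (fun s => P.map (((readHom (K _⦋n⦌)).app V s).φ PUnit.unit).op
      (co (((readHom (K _⦋n⦌)).app V s).f PUnit.unit) x))
      (FreeAbelianGroup.map (fun t => (FormalCoproduct.yoneda.obj (K _⦋n⦌)).map g t) (FreeAbelianGroup.of (pt w))) =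
      P.map g (FreeAbelianGroup.lift (fun s => P.map (((readHom (K _⦋n⦌)).app U s).φ PUnit.unit).op
      (co (((readHom (K _⦋n⦌)).app U s).f PUnit.unit) x)) (FreeAbelianGroup.of (pt w)))
    rw [FreeAbelianGroup.map_of_apply, FreeAbelianGroup.lift_apply_of, FreeAbelianGroup.lift_apply_of]
    rw [show (FormalCoproduct.yoneda.obj (K _⦋n⦌)).map g (pt w) = pt ((FormalCoproduct.incl C).map g.unop ≫ w) from pt_res w g.unop]
    rw [readHom_pt, show (readHom (K _⦋n⦌)).app U (pt w) = w from readHom_pt w]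
    change P.map (g.unop ≫ w.φ PUnit.unit).op _ = _
    rw [op_comp, Functor.map_comp]
    rfl

variable (K P n) in
/-- Maps out of the free presheaf are cochains. -/
noncomputable def cochainEquiv : ((freeP (sps K)) _⦋n⦌ ⟶ P) ≃+ ((cx K P).X n : Type u) where
  toFun φ := mk fun i => φ.app (op _) (FreeAbelianGroup.of (gen i))
  invFun := ofCochain
  left_inv φ := by
    refine NatTrans.ext (funext fun U => AddCommGrpCat.hom_ext (FreeAbelianGroup.lift_ext _ _ fun s => ?_))
    obtain ⟨w, rfl⟩ := (ptEquiv U.unop (K _⦋n⦌)).surjective s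
    refine (FreeAbelianGroup.lift_apply_of _ _).trans ?_
    rw [show (readHom (K _⦋n⦌)).app U ((ptEquiv U.unop (K _⦋n⦌)) w) = w from readHom_pt w, co_mk]
    refine (congr($(φ.naturality (w.φ PUnit.unit).op) (FreeAbelianGroup.of (gen (w.f PUnit.unit))))).symm.trans ?_
    refine congrArg (φ.app U) ((FreeAbelianGroup.map_of_apply _).trans ?_)
    exact congrArg FreeAbelianGroup.of (pt_eq_map_gen w).symm
  right_inv x := co_ext fun i => by
    rw [co_mk]
    refine (FreeAbelianGroup.lift_apply_of _ _).trans ?_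
    rw [show (readHom (K _⦋n⦌)).app (op ((K _⦋n⦌).obj i)) (gen i) = FormalCoproduct.Hom.fromIncl i (𝟙 _) from readHom_pt _]
    exact congr($(P.map_id _) (co i x))
  map_add' φ ψ := co_ext fun i => by
    rw [map_add, co_mk, co_mk, co_mk]
    rfl

theorem co_cochainEquiv (φ : (freeP (sps K)) _⦋n⦌ ⟶ P) (i : (K _⦋n⦌).I) :
    co i (cochainEquiv K P n φ) = φ.app (op _) (FreeAbelianGroup.of (gen i)) := co_mk _ i

theorem cochainEquiv_d (φ : (freeP (sps K)) _⦋n⦌ ⟶ P) :
    cochainEquiv K P (n + 1) (dP (sps K) n ≫ φ) = (cx K P).d n (n + 1) (cochainEquiv K P n φ) := by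
  refine co_ext fun i => ?_
  rw [co_cochainEquiv, co_d]
  change φ.app (op ((K _⦋n + 1⦌).obj i)) ((dP (sps K) n).app (op ((K _⦋n + 1⦌).obj i)) (FreeAbelianGroup.of (gen i))) = _
  rw [dP_app, freeD_of, map_sum]
  refine Finset.sum_congr rfl fun j _ => ?_
  rw [map_zsmul, co_cochainEquiv]
  congr 1
  rw [gen, face_pt, pt_eq_map_gen]
  refine Eq.trans ?_ (congr($(φ.naturality ((K.δ j).φ i).op) (FreeAbelianGroup.of (gen ((K.δ j).f i)))))
  refine congrArg (φ.app _) (Eq.symm ((FreeAbelianGroup.map_of_apply _).trans (congrArg FreeAbelianGroup.of ?_)))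
  change _ = (FormalCoproduct.yoneda.obj (K _⦋n⦌)).map (𝟙 _ ≫ (K.δ j).φ i).op (gen ((K.δ j).f i))
  rw [Category.id_comp]
  rfl

/-- Čech cochains of an injective sheaf are exact in positive degrees. -/
theorem isZero_homology_of_injective {J : GrothendieckTopology C} (hX : LocFill J (sps K))
    (I : Sheaf J AddCommGrpCat.{u}) [Injective I] (p : ℕ) : IsZero ((cx K I.obj).homology (p + 1)) := by
  rw [← HomologicalComplex.exactAt_iff_isZero_homology,
    HomologicalComplex.exactAt_iff' _ p (p + 1) (p + 1 + 1) (by simp) (by simp), ShortComplex.ab_exact_iff]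
  intro x (hx : (cx K I.obj).d (p + 1) (p + 1 + 1) x = 0)
  obtain ⟨φ, rfl⟩ := (cochainEquiv K I.obj (p + 1)).surjective x
  have hφ : dP (sps K) (p + 1) ≫ φ = 0 := (cochainEquiv K I.obj (p + 1 + 1)).injective (by
    rw [cochainEquiv_d, hx, map_zero])
  let adj := sheafificationAdjunction J AddCommGrpCat.{u}
  have hdd : dP (sps K) (p + 1) ≫ dP (sps K) p = 0 := AlternatingFaceMapComplex.d_squared (freeP (sps K)) p
  let S := (ShortComplex.mk (dP (sps K) (p + 1)) (dP (sps K) p) hdd).map (presheafToSheaf J AddCommGrpCat.{u})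
  have hS : S.Exact := exact_map_of_locally_exact (J := J) _ fun U z hz => by
    obtain ⟨R, hR, hw⟩ := exists_local_boundary hX p U z ((dP_app (sps K) p U z).symm.trans hz)
    refine ⟨R, hR, fun V g hg => ?_⟩
    obtain ⟨w, hw'⟩ := hw g hg
    exact ⟨w, (dP_app (sps K) (p + 1) V w).trans hw'⟩
  let φ' : S.X₂ ⟶ I := (adj.homEquiv _ _).symm φ
  have hφ' : S.f ≫ φ' = 0 := by
    refine (adj.homEquiv_naturality_left_symm _ _).symm.trans ?_
    rw [hφ]
    exact (adj.homAddEquiv _ _).symm.map_zero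
  let ψ : S.X₃ ⟶ I := hS.descToInjective φ' hφ'
  refine ⟨cochainEquiv K I.obj p (adj.homEquiv _ _ ψ), ?_⟩
  refine (cochainEquiv_d _).symm.trans (congrArg _ ?_)
  refine (adj.homEquiv_naturality_left _ _).symm.trans ?_
  rw [show (presheafToSheaf J AddCommGrpCat.{u}).map (dP (sps K) p) ≫ ψ = φ' from hS.comp_descToInjective φ' hφ']
  exact (adj.homEquiv _ _).apply_symm_apply φ

end Groth.L10.Hyper
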