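import Groth.Agent.L10.Hyper.Converse
import Mathlib.CategoryTheory.Comma.Over.Basic

/-! Hypercoverings by objects of a class covering every object. -/

universe u

open CategoryTheory CategoryTheory.Limits Opposite Simplicial

set_option backward.defeqAttrib.useBackward true
set_option backward.isDefEq.respectTransparency false
namespace Groth.L10.Hyper

variable {C : Type u} [SmallCategory C] (B : Set C)

/-- An `m`-cell: a value in `B` for every simplex of `⦋m⦌`, contravariantly. -/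
abbrev Cell (m : SimplexCategory) : Type u :=
  {F : (Over m)ᵒᵖ ⥤ C // ∀ θ, F.obj θ ∈ B}

/-- The top simplex. -/
abbrev topS (m : SimplexCategory) : (Over m)ᵒᵖ := op (Over.mk (𝟙 m))

/-- The simplicial formal coproduct of all cells. -/
def cellObj : SimplicialObject (FormalCoproduct.{u} C) where
  obj Δ := ⟨Cell B Δ.unop, fun c => c.1.obj (topS Δ.unop)⟩
  map {Δ Δ'} θ := ⟨fun c => ⟨(Over.map θ.unop).op ⋙ c.1, fun _ => c.2 _⟩,
    fun c => c.1.map (Quiver.Hom.op (Over.homMk θ.unop : (Over.map θ.unop).obj (Over.mk (𝟙 Δ'.unop)) ⟶ Over.mk (𝟙 Δ.unop)))⟩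
  map_id Δ := by
    rw [FormalCoproduct.hom_ext_iff']
    intro c
    refine ⟨Subtype.ext ?_, ?_⟩
    · change (Over.map (𝟙 Δ.unop)).op ⋙ c.1 = c.1
      rw [Over.mapId_eq]
      rfl
    · change c.1.map _ ≫ eqToHom _ = 𝟙 (c.1.obj (topS Δ.unop))
      have e : op ((Over.map (𝟙 Δ.unop)).obj (Over.mk (𝟙 Δ.unop))) = topS Δ.unop :=
        congrArg op (CategoryTheory.Functor.congr_obj (Over.mapId_eq _) _)
      refine (congrArg (c.1.map _ ≫ ·) (eqToHom_map c.1 e).symm).trans ((c.1.map_comp _ _).symm.trans (Eq.trans ?_ (c.1.map_id _)))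
      refine congrArg _ (Quiver.Hom.unop_inj (Over.OverMorphism.ext ?_))
      simp
  map_comp {Δ Δ' Δ''} θ θ' := by
    rw [FormalCoproduct.hom_ext_iff']
    intro c
    refine ⟨Subtype.ext ?_, ?_⟩
    · change (Over.map (θ'.unop ≫ θ.unop)).op ⋙ c.1 = (Over.map θ'.unop).op ⋙ (Over.map θ.unop).op ⋙ c.1
      rw [Over.mapComp_eq]
      rfl
    · change c.1.map _ ≫ eqToHom _ = c.1.map _ ≫ c.1.map ((Over.map θ.unop).op.map _)
      have e : op ((Over.map (θ'.unop ≫ θ.unop)).obj (Over.mk (𝟙 Δ''.unop))) =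
          (Over.map θ.unop).op.obj ((Over.map θ'.unop).op.obj (topS Δ''.unop)) :=
        congrArg op (CategoryTheory.Functor.congr_obj (Over.mapComp_eq _ _) _)
      refine (congrArg (c.1.map _ ≫ ·) (eqToHom_map c.1 e).symm).trans ((c.1.map_comp _ _).symm.trans (Eq.trans ?_ (c.1.map_comp _ _)))
      refine congrArg _ (Quiver.Hom.unop_inj (Over.OverMorphism.ext ?_))
      simp

theorem map_top {m : SimplexCategory} (θ : (Over m)ᵒᵖ) : (Over.map θ.unop.hom).op.obj (topS θ.unop.left) = θ :=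
  congrArg op (congrArg Over.mk (Category.id_comp θ.unop.hom))

theorem cellObj_map_φ {Δ Δ' : SimplexCategoryᵒᵖ} (θ : Δ ⟶ Δ') (c : Cell B Δ.unop) :
    ((cellObj B).map θ).φ c =
      c.1.map (Quiver.Hom.op (Over.homMk θ.unop : (Over.map θ.unop).obj (Over.mk (𝟙 Δ'.unop)) ⟶ Over.mk (𝟙 Δ.unop))) := rfl

variable {B} {n : ℕ} {U : C} {y : Fin (n + 2) → ((FormalCoproduct.incl C).obj U ⟶ (cellObj B) _⦋n⦌)}

/-- A simplex of `⦋n + 1⦌` in the boundary. -/
def InBdry {Δ : SimplexCategory} (α : Δ ⟶ ⦋n + 1⦌) : Prop :=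
  ∃ (p : Fin (n + 2)) (β : Δ ⟶ ⦋n⦌), α = β ≫ SimplexCategory.δ p

theorem InBdry.comp {Δ Δ' : SimplexCategory} {α : Δ ⟶ ⦋n + 1⦌} (h : InBdry α) (ψ : Δ' ⟶ Δ) : InBdry (ψ ≫ α) := by
  obtain ⟨p, β, rfl⟩ := h
  exact ⟨p, ψ ≫ β, (Category.assoc _ _ _).symm⟩

variable (y) in
/-- The value of the boundary. -/
noncomputable def bdryN {Δ : SimplexCategory} (α : Δ ⟶ ⦋n + 1⦌) (h : InBdry α) :
    (FormalCoproduct.incl C).obj U ⟶ (cellObj B).obj (op Δ) :=
  y h.choose ≫ (cellObj B).map h.choose_spec.choose.op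

theorem bdryN_comp (hy : Compat y) {Δ Δ' : SimplexCategory} (α : Δ ⟶ ⦋n + 1⦌) (h : InBdry α) (ψ : Δ' ⟶ Δ)
    (α' : Δ' ⟶ ⦋n + 1⦌) (e : α' = ψ ≫ α) (h' : InBdry α') :
    bdryN y α h ≫ (cellObj B).map ψ.op = bdryN y α' h' := by
  subst e
  have := well_defined hy (ψ ≫ h.choose_spec.choose) h'.choose_spec.choose (p := h.choose) (q := h'.choose) (by
    rw [Category.assoc, ← h.choose_spec.choose_spec]
    exact h'.choose_spec.choose_spec)
  simpa [bdryN] using this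

theorem bdryN_δ (hy : Compat y) (j : Fin (n + 2)) (h : InBdry (SimplexCategory.δ (n := n) j)) :
    bdryN y (SimplexCategory.δ j) h = y j := by
  have := well_defined hy h.choose_spec.choose (𝟙 _) (p := h.choose) (q := j)
    (h.choose_spec.choose_spec.symm.trans (Category.id_comp _).symm)
  simpa [bdryN] using this

variable (y) in
/-- The cell at a boundary simplex. -/
noncomputable abbrev cIdx (θ : (Over (⦋n + 1⦌ : SimplexCategory))ᵒᵖ) (h : InBdry θ.unop.hom) : Cell B θ.unop.left :=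
  (bdryN y θ.unop.hom h).f PUnit.unit

theorem cIdx_map (hy : Compat y) {θ θ' : (Over (⦋n + 1⦌ : SimplexCategory))ᵒᵖ} (f : θ ⟶ θ') (h : InBdry θ.unop.hom)
    (h' : InBdry θ'.unop.hom) : ((cellObj B).map f.unop.left.op).f (cIdx y θ h) = cIdx y θ' h' :=
  congrArg (fun t => t.f PUnit.unit) (bdryN_comp hy _ h f.unop.left _ (Over.w f.unop).symm h')

/-- Transition between boundary simplices. -/
noncomputable def bTr (hy : Compat y) {θ θ' : (Over (⦋n + 1⦌ : SimplexCategory))ᵒᵖ} (f : θ ⟶ θ') (h : InBdry θ.unop.hom)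
    (h' : InBdry θ'.unop.hom) : (cIdx y θ h).1.obj (topS _) ⟶ (cIdx y θ' h').1.obj (topS _) :=
  ((cellObj B).map f.unop.left.op).φ (cIdx y θ h) ≫ eqToHom (congrArg (fun c : Cell B θ'.unop.left => c.1.obj (topS _)) (cIdx_map hy f h h'))

theorem v_bTr (hy : Compat y) {θ θ' : (Over (⦋n + 1⦌ : SimplexCategory))ᵒᵖ} (f : θ ⟶ θ') (h : InBdry θ.unop.hom)
    (h' : InBdry θ'.unop.hom) : (bdryN y θ.unop.hom h).φ PUnit.unit ≫ bTr hy f h h' = (bdryN y θ'.unop.hom h').φ PUnit.unit := by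
  obtain ⟨h₁, h₂⟩ := (FormalCoproduct.hom_ext_iff' _ _).1 (bdryN_comp hy _ h f.unop.left _ (Over.w f.unop).symm h') PUnit.unit
  refine Eq.trans ?_ h₂
  exact (Category.assoc _ _ _).symm

theorem φ_comp_aux {Δ Δ' Δ'' : SimplexCategoryᵒᵖ} (f : Δ ⟶ Δ') (g : Δ' ⟶ Δ'') (fg : Δ ⟶ Δ'') (e : fg = f ≫ g)
    (a : Cell B Δ.unop) (b : Cell B Δ'.unop) (c : Cell B Δ''.unop) (h : ((cellObj B).map f).f a = b)
    (h' : ((cellObj B).map g).f b = c) (h'' : ((cellObj B).map fg).f a = c) :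
    ((cellObj B).map f).φ a ≫ eqToHom (congrArg (fun x : Cell B Δ'.unop => x.1.obj (topS _)) h) ≫
        ((cellObj B).map g).φ b ≫ eqToHom (congrArg (fun x : Cell B Δ''.unop => x.1.obj (topS _)) h') =
      ((cellObj B).map fg).φ a ≫ eqToHom (congrArg (fun x : Cell B Δ''.unop => x.1.obj (topS _)) h'') := by
  subst e h h'
  obtain ⟨h₁, h₂⟩ := (FormalCoproduct.hom_ext_iff' _ _).1 ((cellObj B).map_comp f g) a
  refine Eq.trans ?_ h₂.symm |>.trans ?_
  · simp only [eqToHom_refl]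
    erw [Category.id_comp, Category.comp_id]
    rfl
  · rfl

theorem bTr_id (hy : Compat y) (θ : (Over (⦋n + 1⦌ : SimplexCategory))ᵒᵖ) (h : InBdry θ.unop.hom) :
    bTr hy (𝟙 θ) h h = 𝟙 _ := by
  obtain ⟨h₁, h₂⟩ := (FormalCoproduct.hom_ext_iff' _ _).1 ((cellObj B).map_id (op θ.unop.left)) (cIdx y θ h)
  exact h₂

theorem bTr_comp (hy : Compat y) {θ θ' θ'' : (Over (⦋n + 1⦌ : SimplexCategory))ᵒᵖ} (f : θ ⟶ θ') (g : θ' ⟶ θ'')
    (h : InBdry θ.unop.hom) (h' : InBdry θ'.unop.hom) (h'' : InBdry θ''.unop.hom) :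
    bTr hy (f ≫ g) h h'' = bTr hy f h h' ≫ bTr hy g h' h'' :=
  ((Category.assoc _ _ _).trans (φ_comp_aux f.unop.left.op g.unop.left.op (f ≫ g).unop.left.op rfl _ _ _
    (cIdx_map hy f h h') (cIdx_map hy g h' h'') (cIdx_map hy (f ≫ g) h h''))).symm

section

variable (y) (W : C) (b : W ⟶ U)

open scoped Classical in
/-- The value of the filler at a simplex. -/
noncomputable def fillObj (θ : (Over (⦋n + 1⦌ : SimplexCategory))ᵒᵖ) : Σ' V : C, (W ⟶ V) :=
  if h : InBdry θ.unop.hom then ⟨(cIdx y θ h).1.obj (topS _), b ≫ (bdryN y θ.unop.hom h).φ PUnit.unit⟩ else ⟨W, 𝟙 W⟩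

variable {y W b}

theorem fillObj_pos {θ : (Over (⦋n + 1⦌ : SimplexCategory))ᵒᵖ} (h : InBdry θ.unop.hom) :
    fillObj y W b θ = ⟨(cIdx y θ h).1.obj (topS _), b ≫ (bdryN y θ.unop.hom h).φ PUnit.unit⟩ := dif_pos h

theorem fillObj_neg {θ : (Over (⦋n + 1⦌ : SimplexCategory))ᵒᵖ} (h : ¬InBdry θ.unop.hom) :
    fillObj y W b θ = ⟨W, 𝟙 W⟩ := dif_neg h

theorem snd_eqToHom {P Q : Σ' V : C, (W ⟶ V)} (e : P = Q) : P.2 ≫ eqToHom (congrArg PSigma.fst e) = Q.2 := by
  subst e; simp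

theorem InBdry.of_hom {θ θ' : (Over (⦋n + 1⦌ : SimplexCategory))ᵒᵖ} (f : θ ⟶ θ') (h : InBdry θ.unop.hom) :
    InBdry θ'.unop.hom := by
  have := h.comp f.unop.left
  rwa [Over.w f.unop] at this

theorem snd_eqToHom_assoc {P Q : Σ' V : C, (W ⟶ V)} (e : P = Q) {Z : C} (k : Q.1 ⟶ Z) :
    P.2 ≫ eqToHom (congrArg PSigma.fst e) ≫ k = Q.2 ≫ k := by
  subst e; simp

theorem snd_fillObj_δ (j : Fin (n + 2)) (hd : InBdry (SimplexCategory.δ (n := n) j))
    (θ : (Over (⦋n + 1⦌ : SimplexCategory))ᵒᵖ) (hθ : θ = op (Over.mk (SimplexCategory.δ j))) {Z : C}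
    (e : (fillObj y W b θ).1 = Z) (e' : ((bdryN y (SimplexCategory.δ j) hd).f PUnit.unit).1.obj (topS _) = Z) :
    (fillObj y W b θ).2 ≫ eqToHom e = b ≫ (bdryN y (SimplexCategory.δ j) hd).φ PUnit.unit ≫ eqToHom e' := by
  subst hθ e
  refine Eq.trans ?_ (Category.assoc _ _ _)
  refine (Category.comp_id _).trans ?_
  exact (snd_eqToHom (fillObj_pos (θ := op (Over.mk (SimplexCategory.δ j))) hd).symm).symm

open scoped Classical in
/-- Transition of the filler. -/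
noncomputable def fillTr (hy : Compat y) {θ θ' : (Over (⦋n + 1⦌ : SimplexCategory))ᵒᵖ} (f : θ ⟶ θ') :
    (fillObj y W b θ).1 ⟶ (fillObj y W b θ').1 :=
  if h : InBdry θ.unop.hom then
    eqToHom (congrArg PSigma.fst (fillObj_pos h)) ≫ bTr hy f h (h.of_hom f) ≫
      eqToHom (congrArg PSigma.fst (fillObj_pos (h.of_hom f))).symm
  else eqToHom (congrArg PSigma.fst (fillObj_neg h)) ≫ (fillObj y W b θ').2

theorem fillTr_pos (hy : Compat y) {θ θ' : (Over (⦋n + 1⦌ : SimplexCategory))ᵒᵖ} (f : θ ⟶ θ') (h : InBdry θ.unop.hom) :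
    fillTr (W := W) (b := b) hy f = eqToHom (congrArg PSigma.fst (fillObj_pos h)) ≫ bTr hy f h (h.of_hom f) ≫
      eqToHom (congrArg PSigma.fst (fillObj_pos (h.of_hom f))).symm := dif_pos h

theorem fillTr_neg (hy : Compat y) {θ θ' : (Over (⦋n + 1⦌ : SimplexCategory))ᵒᵖ} (f : θ ⟶ θ') (h : ¬InBdry θ.unop.hom) :
    fillTr (W := W) (b := b) hy f = eqToHom (congrArg PSigma.fst (fillObj_neg h)) ≫ (fillObj y W b θ').2 := dif_neg h

theorem snd_fillTr (hy : Compat y) {θ θ' : (Over (⦋n + 1⦌ : SimplexCategory))ᵒᵖ} (f : θ ⟶ θ') :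
    (fillObj y W b θ).2 ≫ fillTr hy f = (fillObj y W b θ').2 := by
  by_cases h : InBdry θ.unop.hom
  · rw [fillTr_pos hy f h]
    refine (snd_eqToHom_assoc (fillObj_pos h) _).trans ?_
    refine Eq.trans ?_ (snd_eqToHom (fillObj_pos (h.of_hom f)).symm)
    refine (Category.assoc _ _ _).trans (Eq.trans (congrArg (b ≫ ·) ?_) (Category.assoc _ _ _).symm)
    exact (Category.assoc _ _ _).symm.trans (congrArg (· ≫ eqToHom _) (v_bTr hy f h (h.of_hom f)))
  · rw [fillTr_neg hy f h]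
    exact (snd_eqToHom_assoc (fillObj_neg h) _).trans (Category.id_comp _)

/-- The filling cell. -/
noncomputable def fillCell (hy : Compat y) (hW : W ∈ B) : Cell B ⦋n + 1⦌ :=
  ⟨{ obj := fun θ => (fillObj y W b θ).1
     map := fun f => fillTr hy f
     map_id := fun θ => by
       by_cases h : InBdry θ.unop.hom
       · rw [fillTr_pos hy _ h, bTr_id]; simp
       · rw [fillTr_neg hy _ h]
         have := snd_eqToHom (fillObj_neg (y := y) (W := W) (b := b) h)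
         rw [← cancel_mono (eqToHom (congrArg PSigma.fst (fillObj_neg (y := y) (W := W) (b := b) h))), Category.assoc, this]
         simp
     map_comp := fun {θ θ' θ''} f g => by
       by_cases h : InBdry θ.unop.hom
       · rw [fillTr_pos hy _ h, fillTr_pos hy f h, fillTr_pos hy g (h.of_hom f), bTr_comp hy f g h (h.of_hom f)]
         simp
       · rw [fillTr_neg hy _ h, fillTr_neg hy f h, Category.assoc, snd_fillTr hy g] },
   fun θ => by
    change (fillObj y W b θ).1 ∈ B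
    by_cases h : InBdry θ.unop.hom
    · rw [fillObj_pos h]; exact (cIdx y θ h).2 _
    · rw [fillObj_neg h]; exact hW⟩

theorem inBdry_over {Δ : SimplexCategory} (j : Fin (n + 2)) (θ : Δ ⟶ (⦋n⦌ : SimplexCategory)) :
    InBdry (θ ≫ SimplexCategory.δ j) := ⟨j, θ, rfl⟩

theorem fillCell_face (hy : Compat y) (hW : W ∈ B) (j : Fin (n + 2)) :
    ((cellObj B).map (SimplexCategory.δ j).op).f (fillCell (b := b) hy hW) = (y j).f PUnit.unit := by
  refine Eq.trans ?_ (congrArg (fun t => t.f PUnit.unit) (bdryN_δ hy j ⟨j, 𝟙 _, (Category.id_comp _).symm⟩))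
  let δO : (Over (⦋n + 1⦌ : SimplexCategory))ᵒᵖ := op (Over.mk (SimplexCategory.δ j))
  have hδ : InBdry δO.unop.hom := ⟨j, 𝟙 _, (Category.id_comp _).symm⟩
  let G := (Over.map (SimplexCategory.δ j) : Over (⦋n⦌ : SimplexCategory) ⥤ Over ⦋n + 1⦌).op
  let toθ : ∀ θ : (Over (⦋n⦌ : SimplexCategory))ᵒᵖ, δO ⟶ G.obj θ := fun θ =>
    Quiver.Hom.op (Over.homMk θ.unop.hom : (G.obj θ).unop ⟶ δO.unop)
  have hb : ∀ θ : (Over (⦋n⦌ : SimplexCategory))ᵒᵖ, InBdry (G.obj θ).unop.hom := fun θ => hδ.of_hom (toθ θ)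
  have hidx : ∀ θ : (Over (⦋n⦌ : SimplexCategory))ᵒᵖ,
      ((cellObj B).map θ.unop.hom.op).f (cIdx y δO hδ) = cIdx y (G.obj θ) (hb θ) :=
    fun θ => cIdx_map hy (toθ θ) hδ (hb θ)
  have hobj : ∀ θ : (Over (⦋n⦌ : SimplexCategory))ᵒᵖ,
      (fillObj y W b (G.obj θ)).1 = (cIdx y δO hδ).1.obj θ := fun θ =>
    (congrArg PSigma.fst (fillObj_pos (hb θ))).trans
      ((congrArg (fun c : Cell B θ.unop.left => c.1.obj (topS _)) (hidx θ)).symm.trans
        (congrArg (cIdx y δO hδ).1.obj (map_top θ)))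
  refine Subtype.ext (CategoryTheory.Functor.ext hobj fun θ θ' f => ?_)
  change fillTr hy (G.map f) = _
  rw [fillTr_pos hy (G.map f) (hb θ)]
  have key : ∀ (a : Cell B θ.unop.left) (a' : Cell B θ'.unop.left)
      (ha : ((cellObj B).map θ.unop.hom.op).f (cIdx y δO hδ) = a)
      (hm : ((cellObj B).map f.unop.left.op).f a = a')
      (ha' : ((cellObj B).map θ'.unop.hom.op).f (cIdx y δO hδ) = a'),
      ((cellObj B).map f.unop.left.op).φ a ≫ eqToHom (congrArg (fun c : Cell B θ'.unop.left => c.1.obj (topS _)) hm) =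
        eqToHom ((congrArg (fun c : Cell B θ.unop.left => c.1.obj (topS _)) ha).symm.trans
            (congrArg (cIdx y δO hδ).1.obj (map_top θ))) ≫ (cIdx y δO hδ).1.map f ≫
          eqToHom ((congrArg (cIdx y δO hδ).1.obj (map_top θ').symm).trans
            (congrArg (fun c : Cell B θ'.unop.left => c.1.obj (topS _)) ha')) := by
    rintro _ _ rfl rfl ha'
    erw [Category.comp_id]
    have e3 : θ' = op ((Over.map θ.unop.hom).obj ((Over.map f.unop.left).obj (Over.mk (𝟙 θ'.unop.left)))) :=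
      congrArg op (congrArg Over.mk (Eq.symm (by simp [Over.w f.unop] :
        (𝟙 θ'.unop.left ≫ f.unop.left) ≫ θ.unop.hom = θ'.unop.hom)))
    refine Eq.trans ?_ (congrArg₂ (fun a b => a ≫ (cIdx y δO hδ).1.map f ≫ b)
      (eqToHom_map (cIdx y δO hδ).1 (map_top θ)) (eqToHom_map (cIdx y δO hδ).1 e3))
    refine Eq.trans ?_ (((cIdx y δO hδ).1.map_comp _ _).trans (congrArg (_ ≫ ·) ((cIdx y δO hδ).1.map_comp _ _)))
    refine congrArg _ (Quiver.Hom.unop_inj (Over.OverMorphism.ext ?_))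
    simp
  refine (congrArg (eqToHom _ ≫ ·) (congrArg (· ≫ eqToHom _)
    (key _ _ (hidx θ) (cIdx_map hy (G.map f) (hb θ) (hb θ')) (hidx θ')))).trans ?_
  simp
  rfl

theorem fillCell_top (hy : Compat y) (hW : W ∈ B) :
    (fillCell (b := b) hy hW).1.obj (topS _) = W := by
  refine congrArg PSigma.fst (fillObj_neg ?_)
  rintro ⟨p, β, h⟩
  have h' := congrArg (fun t => t.toOrderHom p) h
  simp only [SimplexCategory.comp_toOrderHom, OrderHom.comp_coe, Function.comp_apply] at h'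
  exact Fin.succAbove_ne p (β.toOrderHom p) h'.symm

theorem exists_fill (hy : Compat y) (hW : W ∈ B) :
    ∃ w : (FormalCoproduct.incl C).obj W ⟶ (cellObj B) _⦋n + 1⦌,
      ∀ j, w ≫ (cellObj B).δ j = (FormalCoproduct.incl C).map b ≫ y j := by
  refine ⟨FormalCoproduct.Hom.fromIncl (fillCell (b := b) hy hW) (eqToHom (fillCell_top hy hW).symm), fun j => ?_⟩
  rw [FormalCoproduct.hom_ext_iff']
  intro x
  refine ⟨fillCell_face hy hW j, ?_⟩
  change (eqToHom (fillCell_top (b := b) hy hW).symm ≫ fillTr hy _) ≫ eqToHom _ = b ≫ (y j).φ PUnit.unit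
  have hn : ¬InBdry (topS (⦋n + 1⦌ : SimplexCategory)).unop.hom := by
    rintro ⟨p, β, h⟩
    have h' := congrArg (fun t => t.toOrderHom p) h
    simp only [SimplexCategory.comp_toOrderHom, OrderHom.comp_coe, Function.comp_apply] at h'
    exact Fin.succAbove_ne p (β.toOrderHom p) h'.symm
  rw [fillTr_neg hy _ hn]
  simp only [eqToHom_trans_assoc, eqToHom_refl, Category.id_comp]
  have hδ : InBdry ((Over.map (SimplexCategory.δ j)).obj (Over.mk (𝟙 (⦋n⦌ : SimplexCategory)))).hom := inBdry_over j (𝟙 _)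
  obtain ⟨h₁, h₂⟩ := (FormalCoproduct.hom_ext_iff' _ _).1 (bdryN_δ hy j (⟨j, 𝟙 _, (Category.id_comp _).symm⟩ :
    InBdry (SimplexCategory.δ j))) PUnit.unit
  rw [← h₂]
  exact snd_fillObj_δ j _ _ (congrArg op (congrArg Over.mk (Category.id_comp _))) _ _

end

/-- Every object is covered by objects of `B`. -/
def CoversB (J : GrothendieckTopology C) (B : Set C) : Prop :=
  ∀ U : C, ∃ S ∈ J U, ∀ ⦃V⦄ (g : V ⟶ U), S g → ∃ (W : C) (a : V ⟶ W) (b : W ⟶ U), W ∈ B ∧ a ≫ b = g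

theorem homVertex_cellObj {J : GrothendieckTopology C} (hB : CoversB J B) (U : C) :
    ∃ S ∈ J U, ∀ ⦃V⦄ (g : V ⟶ U), S g → Nonempty ((FormalCoproduct.incl C).obj V ⟶ (cellObj B) _⦋0⦌) := by
  obtain ⟨S, hS, h⟩ := hB U
  refine ⟨S, hS, fun V g hg => ?_⟩
  obtain ⟨W, a, b, hW, rfl⟩ := h g hg
  exact ⟨FormalCoproduct.Hom.fromIncl (⟨(Functor.const _).obj W, fun _ => hW⟩ : Cell B ⦋0⦌) a⟩

theorem homFill_cellObj {J : GrothendieckTopology C} (hB : CoversB J B) : HomFill J (cellObj B) := fun n U y hy => by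
  obtain ⟨S, hS, h⟩ := hB U
  refine ⟨S, hS, fun V g hg => ?_⟩
  obtain ⟨W, a, b, hW, rfl⟩ := h g hg
  obtain ⟨w, hw⟩ := exists_fill (b := b) hy hW
  exact ⟨(FormalCoproduct.incl C).map a ≫ w, fun j => by rw [Category.assoc, hw j, Functor.map_comp, Category.assoc]⟩

theorem cellObj_mem {n : ℕ} (i : ((cellObj B) _⦋n⦌).I) : ((cellObj B) _⦋n⦌).obj i ∈ B := i.2 _

theorem coversB_of_ofArrows {J : GrothendieckTopology C}
    (hB : ∀ U : C, ∃ (ι : Type u) (Y : ι → C) (f : ∀ i, Y i ⟶ U), Sieve.ofArrows Y f ∈ J U ∧ ∀ i, Y i ∈ B) :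
    CoversB J B := fun U => by
  obtain ⟨ι, Y, f, hf, hY⟩ := hB U
  refine ⟨_, hf, fun V g hg => ?_⟩
  obtain ⟨i, q, hq⟩ := (Sieve.mem_ofArrows_iff _ _ g).1 hg
  exact ⟨Y i, q, f i, hY i, hq.symm⟩

theorem coversB_over {J : GrothendieckTopology C}
    (hB : ∀ U : C, ∃ (ι : Type u) (Y : ι → C) (f : ∀ i, Y i ⟶ U), Sieve.ofArrows Y f ∈ J U ∧ ∀ i, Y i ∈ B) (X : C) :
    CoversB (J.over X) {T : Over X | T.left ∈ B} := fun T => by
  obtain ⟨ι, Y, f, hf, hY⟩ := hB T.left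
  refine ⟨_, GrothendieckTopology.overEquiv_symm_mem_over J T _ hf, ?_⟩
  intro V g hg
  rw [Sieve.overEquiv_symm_iff] at hg
  obtain ⟨W, q, _, ⟨i⟩, hq⟩ := hg
  refine ⟨Over.mk (f i ≫ T.hom), Over.homMk q ?_, Over.homMk (f i) rfl, hY i, Over.OverMorphism.ext hq⟩
  exact ((Category.assoc _ _ _).symm.trans (congrArg (· ≫ T.hom) hq)).trans (Over.w g)

theorem exists_hypercovering {J : GrothendieckTopology C}
    (hB : ∀ U : C, ∃ (ι : Type u) (Y : ι → C) (f : ∀ i, Y i ⟶ U), Sieve.ofArrows Y f ∈ J U ∧ ∀ i, Y i ∈ B) (X : C)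
    [∀ (n : ℕ) (F : (SimplexCategory.Truncated n)ᵒᵖ ⥤ Limits.FormalCoproduct.{u} (Over X)),
      (SimplexCategory.Truncated.inclusion n).op.HasRightKanExtension F] :
    ∃ K : SimplicialObject (FormalCoproduct.{u} (Over X)), _root_.Hyper.IsHypercovering J X K ∧
      ∀ (n : ℕ) (i : (K.obj (op (SimplexCategory.mk n))).I),
        ((K.obj (op (SimplexCategory.mk n))).obj i).left ∈ B :=
  ⟨cellObj {T : Over X | T.left ∈ B}, isHypercovering_of_fill J X _
    (cover_of_vertex J X _ (homVertex_cellObj (coversB_over hB X) _)) (homFill_cellObj (coversB_over hB X)),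
    fun _ i => cellObj_mem i⟩

theorem exists_hypercoveringSite {J : GrothendieckTopology C}
    (hB : ∀ U : C, ∃ (ι : Type u) (Y : ι → C) (f : ∀ i, Y i ⟶ U), Sieve.ofArrows Y f ∈ J U ∧ ∀ i, Y i ∈ B)
    [∀ (n : ℕ) (F : (SimplexCategory.Truncated n)ᵒᵖ ⥤ Limits.FormalCoproduct.{u} C),
      (SimplexCategory.Truncated.inclusion n).op.HasRightKanExtension F] :
    ∃ K : SimplicialObject (FormalCoproduct.{u} C), _root_.Hyper.IsHypercoveringSite J K ∧
      ∀ (n : ℕ) (i : (K.obj (op (SimplexCategory.mk n))).I), (K.obj (op (SimplexCategory.mk n))).obj i ∈ B :=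
  ⟨cellObj B, isHypercoveringSite_of_fill J _ (homVertex_cellObj (coversB_of_ofArrows hB))
    (homFill_cellObj (coversB_of_ofArrows hB)), fun _ i => cellObj_mem i⟩

end Groth.L10.Hyper
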