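import Groth.Agent.L10.Hyper.SRCover
import Mathlib.CategoryTheory.Limits.Shapes.FiniteProducts
import Mathlib.CategoryTheory.Limits.Constructions.FiniteProductsOfBinaryProducts
import Mathlib.CategoryTheory.Limits.Constructions.BinaryProducts

/-! Refining a hypercovering along a covering in one degree. -/

universe u

open CategoryTheory CategoryTheory.Limits Opposite Simplicial

set_option backward.defeqAttrib.useBackward true
set_option backward.isDefEq.respectTransparency false
namespace Groth.L10.Hyper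

variable {C : Type u} [SmallCategory C] {J : GrothendieckTopology C}

theorem exists_sieve_forall {U : C} {ι : Type*} [Finite ι] {P : ι → ∀ V : C, (V ⟶ U) → Prop}
    (h : ∀ i, ∃ S ∈ J U, ∀ ⦃V⦄ (g : V ⟶ U), S g → P i V g) :
    ∃ S ∈ J U, ∀ ⦃V⦄ (g : V ⟶ U), S g → ∀ i, P i V g := by
  classical
  cases nonempty_fintype ι
  choose S hS hP using h
  suffices ∀ F : Finset ι, ∃ T ∈ J U, ∀ ⦃V⦄ (g : V ⟶ U), T g → ∀ i ∈ F, S i g by
    obtain ⟨T, hT, h'⟩ := this Finset.univ
    exact ⟨T, hT, fun V g hg i => hP i g (h' g hg i (Finset.mem_univ i))⟩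
  intro F
  induction F using Finset.induction with
  | empty => exact ⟨⊤, J.top_mem _, fun V g _ i hi => absurd hi (Finset.notMem_empty i)⟩
  | insert a F ha ih =>
    obtain ⟨T, hT, h'⟩ := ih
    refine ⟨T ⊓ S a, J.intersection_covering hT (hS a), fun V g hg i hi => ?_⟩
    rcases Finset.mem_insert.1 hi with rfl | hi
    · exact hg.2
    · exact h' g hg.1 i hi

variable [HasFiniteProducts (FormalCoproduct.{u} C)] [HasPullbacks (FormalCoproduct.{u} C)] (n : ℕ)

instance finite_simplexHom (a b : SimplexCategory) : Finite (a ⟶ b) :=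
  Finite.of_injective (fun f : a ⟶ b => (f.toOrderHom : Fin (a.len + 1) → Fin (b.len + 1)))
    fun f g h => SimplexCategory.Hom.ext _ _ (OrderHom.ext _ _ h)

/-- The simplicial object of `n`-simplices valued in `Y`. -/
noncomputable def power (Y : FormalCoproduct.{u} C) : SimplicialObject (FormalCoproduct.{u} C) where
  obj Δ := ∏ᶜ fun _ : (⦋n⦌ : SimplexCategory) ⟶ Δ.unop => Y
  map θ := Pi.lift fun α => Pi.π _ (α ≫ θ.unop)
  map_id Δ := Limits.Pi.hom_ext _ _ fun α => by simp
  map_comp θ θ' := Limits.Pi.hom_ext _ _ fun α => by simp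

/-- Functoriality of `power`. -/
noncomputable def powerMap {Y Y' : FormalCoproduct.{u} C} (u : Y ⟶ Y') : power n Y ⟶ power n Y' where
  app Δ := Limits.Pi.map fun _ => u
  naturality Δ Δ' θ := Limits.Pi.hom_ext _ _ fun α => by simp [power]

/-- The unit of `power`. -/
noncomputable def toPower (K : SimplicialObject (FormalCoproduct.{u} C)) : K ⟶ power n (K _⦋n⦌) where
  app Δ := Pi.lift fun α => K.map α.op
  naturality Δ Δ' θ := Limits.Pi.hom_ext _ _ fun α => by simp [power]

variable (K : SimplicialObject (FormalCoproduct.{u} C)) {Z : FormalCoproduct.{u} C} (u : Z ⟶ K _⦋n⦌)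

/-- The refinement of `K` along `u`. -/
noncomputable def refine' : SimplicialObject (FormalCoproduct.{u} C) := pullback (toPower n K) (powerMap n u)

/-- The refinement map. -/
noncomputable def refineMap : refine' n K u ⟶ K := pullback.fst _ _

/-- The lift at a simplex. -/
noncomputable def refineLift {Δ : SimplexCategoryᵒᵖ} (α : (⦋n⦌ : SimplexCategory) ⟶ Δ.unop) : (refine' n K u).obj Δ ⟶ Z :=
  (pullback.snd (toPower n K) (powerMap n u)).app Δ ≫ Pi.π _ α

theorem refineLift_comp {Δ : SimplexCategoryᵒᵖ} (α : (⦋n⦌ : SimplexCategory) ⟶ Δ.unop) :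
    refineLift n K u α ≫ u = (refineMap n K u).app Δ ≫ K.map α.op := by
  have h := congr_app (pullback.condition (f := toPower n K) (g := powerMap n u)) Δ =≫ Pi.π _ α
  simp [powerMap, toPower] at h
  simp only [refineLift, Category.assoc]
  exact h.symm

theorem refineLift_map {Δ Δ' : SimplexCategoryᵒᵖ} (θ : Δ ⟶ Δ') (α : (⦋n⦌ : SimplexCategory) ⟶ Δ'.unop) :
    (refine' n K u).map θ ≫ refineLift n K u α = refineLift n K u (α ≫ θ.unop) := by
  change (pullback (toPower n K) (powerMap n u)).map θ ≫ (pullback.snd (toPower n K) (powerMap n u)).app Δ' ≫ Pi.π _ α = _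
  rw [← Category.assoc, (pullback.snd (toPower n K) (powerMap n u)).naturality θ, Category.assoc]
  congr 1
  simp [power]

theorem exists_point {U : C} {Δ : SimplexCategoryᵒᵖ} (w : (FormalCoproduct.incl C).obj U ⟶ K.obj Δ)
    (z : ((⦋n⦌ : SimplexCategory) ⟶ Δ.unop) → ((FormalCoproduct.incl C).obj U ⟶ Z))
    (h : ∀ α, z α ≫ u = w ≫ K.map α.op) :
    ∃ p : (FormalCoproduct.incl C).obj U ⟶ (refine' n K u).obj Δ,
      p ≫ (refineMap n K u).app Δ = w ∧ ∀ α, p ≫ refineLift n K u α = z α := by
  have hP : IsPullback ((refineMap n K u).app Δ) ((pullback.snd (toPower n K) (powerMap n u)).app Δ)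
      ((toPower n K).app Δ) ((powerMap n u).app Δ) :=
    (IsPullback.of_hasPullback (toPower n K) (powerMap n u)).map ((evaluation _ _).obj Δ)
  refine ⟨hP.lift w (Pi.lift z) (Limits.Pi.hom_ext _ _ fun α => ?_), hP.lift_fst _ _ _, fun α => ?_⟩
  · simp [toPower, powerMap, h]
  · rw [refineLift, hP.lift_snd_assoc]
    simp

theorem point_ext {U : C} {Δ : SimplexCategoryᵒᵖ} {p q : (FormalCoproduct.incl C).obj U ⟶ (refine' n K u).obj Δ}
    (h : p ≫ (refineMap n K u).app Δ = q ≫ (refineMap n K u).app Δ)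
    (h' : ∀ α, p ≫ refineLift n K u α = q ≫ refineLift n K u α) : p = q := by
  have hP : IsPullback ((refineMap n K u).app Δ) ((pullback.snd (toPower n K) (powerMap n u)).app Δ)
      ((toPower n K).app Δ) ((powerMap n u).app Δ) :=
    (IsPullback.of_hasPullback (toPower n K) (powerMap n u)).map ((evaluation _ _).obj Δ)
  refine hP.hom_ext h (Limits.Pi.hom_ext _ _ fun α => ?_)
  simp only [Category.assoc]
  exact h' α

theorem well_defined' {m : ℕ} {U : C} {y : Fin (m + 2) → ((FormalCoproduct.incl C).obj U ⟶ (refine' n K u) _⦋m⦌)}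
    (hy : Compat y) {p q : Fin (m + 2)} (β γ : (⦋n⦌ : SimplexCategory) ⟶ ⦋m⦌)
    (h : β ≫ SimplexCategory.δ p = γ ≫ SimplexCategory.δ q) :
    y p ≫ refineLift n K u (Δ := op ⦋m⦌) β = y q ≫ refineLift n K u (Δ := op ⦋m⦌) γ := by
  have h1 := well_defined hy β γ h =≫ refineLift n K u (Δ := op ⦋n⦌) (𝟙 _)
  simp only [Category.assoc, refineLift_map] at h1
  simpa using h1

/-- Vertices of a simplicial formal coproduct. -/
def HomVertex (J : GrothendieckTopology C) (K : SimplicialObject (FormalCoproduct.{u} C)) : Prop :=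
  ∀ U : C, ∃ S ∈ J U, ∀ ⦃V⦄ (g : V ⟶ U), S g → Nonempty ((FormalCoproduct.incl C).obj V ⟶ K _⦋0⦌)

theorem homVertex_refine (hu : Presheaf.IsLocallySurjective J (FormalCoproduct.yoneda.map u))
    (h0 : HomVertex J K) : HomVertex J (refine' n K u) := fun U => by
  obtain ⟨S, hS, h⟩ := h0 U
  let c : (⦋n⦌ : SimplexCategory) ⟶ ⦋0⦌ := SimplexCategory.const _ _ 0
  choose T hT hz using fun (V : C) (g : V ⟶ U) (hg : S g) =>
    exists_lift_of_isLocallySurjective J u hu V ((h g hg).some ≫ K.map c.op)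
  refine ⟨Sieve.bind S.arrows fun V g hg => T V g hg, J.bind_covering hS (fun V g hg => hT V g hg), ?_⟩
  rintro W _ ⟨V, a, g, hg, ha, rfl⟩
  obtain ⟨z, hz'⟩ := hz V g hg a ha
  obtain ⟨p, -, -⟩ := exists_point n K u (Δ := op ⦋0⦌) ((FormalCoproduct.incl C).map a ≫ (h g hg).some) (fun _ => z)
    fun α => by
      rw [hz', Category.assoc, show α = c from SimplexCategory.eq_const_to_zero α]
  exact ⟨p⟩

theorem homFill_refine (hu : Presheaf.IsLocallySurjective J (FormalCoproduct.yoneda.map u))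
    (hK : HomFill J K) : HomFill J (refine' n K u) := fun m U y hy => by
  classical
  let f := refineMap n K u
  have hyK : Compat (fun j => y j ≫ f.app (op ⦋m⦌)) := by
    rintro k rfl i j hij
    have h := hy k rfl i j hij
    simp only [Fin.cast_refl, id_eq] at h ⊢
    have hn : ∀ l : Fin (k + 2), f.app (op ⦋k + 1⦌) ≫ K.δ l = (refine' n K u).δ l ≫ f.app (op ⦋k⦌) := fun l =>
      (f.naturality (SimplexCategory.δ l).op).symm
    rw [Category.assoc, Category.assoc, hn, hn, reassoc_of% h]
  obtain ⟨S, hS, hw⟩ := hK m U _ hyK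
  choose w hw' using fun (V : C) (g : V ⟶ U) (hg : S g) => hw g hg
  let ι := (⦋n⦌ : SimplexCategory) ⟶ ⦋m + 1⦌
  have hlift : ∀ (V : C) (g : V ⟶ U) (hg : S g), ∃ T ∈ J V, ∀ ⦃W⦄ (a : W ⟶ V), T a → ∀ α : ι,
      ∃ z : (FormalCoproduct.incl C).obj W ⟶ Z, z ≫ u = ((FormalCoproduct.incl C).map a ≫ w V g hg) ≫ K.map α.op := by
    intro V g hg
    refine exists_sieve_forall (P := fun (α : ι) W a => ∃ z : (FormalCoproduct.incl C).obj W ⟶ Z,
      z ≫ u = ((FormalCoproduct.incl C).map a ≫ w V g hg) ≫ K.map α.op) fun α => ?_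
    obtain ⟨T, hT, h⟩ := exists_lift_of_isLocallySurjective J u hu V (w V g hg ≫ K.map α.op)
    refine ⟨T, hT, fun W a ha => ?_⟩
    obtain ⟨z, hz⟩ := h a ha
    exact ⟨z, hz.trans (Category.assoc _ _ _).symm⟩
  choose T hT hz using hlift
  refine ⟨Sieve.bind S.arrows fun V g hg => T V g hg, J.bind_covering hS (fun V g hg => hT V g hg), ?_⟩
  rintro W _ ⟨V, a, g, hg, ha, rfl⟩
  choose z hz' using hz V g hg a ha
  let ag := (FormalCoproduct.incl C).map (a ≫ g)
  let z' : ι → ((FormalCoproduct.incl C).obj W ⟶ Z) := fun α =>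
    if h : ∃ (j : Fin (m + 2)) (β : (⦋n⦌ : SimplexCategory) ⟶ ⦋m⦌), α = β ≫ SimplexCategory.δ j then
      ag ≫ y h.choose ≫ refineLift n K u (Δ := op ⦋m⦌) h.choose_spec.choose
    else z α
  obtain ⟨p, hp, hpz⟩ := exists_point n K u (Δ := op ⦋m + 1⦌) ((FormalCoproduct.incl C).map a ≫ w V g hg) z' fun α => by
    simp only [z']
    split
    · next h =>
      obtain e := h.choose_spec.choose_spec
      conv_rhs => rw [e, op_comp, Functor.map_comp]
      simp only [Category.assoc, refineLift_comp]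
      simp only [← SimplicialObject.δ.eq_def, reassoc_of% (hw' V g hg h.choose)]
      simp [ag, f]
    · exact hz' α
  refine ⟨p, fun j => point_ext n K u ?_ fun β => ?_⟩
  · have hn : (refine' n K u).δ j ≫ f.app (op ⦋m⦌) = f.app (op ⦋m + 1⦌) ≫ K.δ j := f.naturality (SimplexCategory.δ j).op
    simp only [Category.assoc]
    rw [hn, reassoc_of% hp, hw' V g hg j]
    simp [f]
  · simp only [Category.assoc, SimplicialObject.δ, refineLift_map, hpz]
    have h : ∃ (j' : Fin (m + 2)) (β' : (⦋n⦌ : SimplexCategory) ⟶ ⦋m⦌), β ≫ SimplexCategory.δ j = β' ≫ SimplexCategory.δ j' :=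
      ⟨j, β, rfl⟩
    simp only [z', Quiver.Hom.unop_op]
    rw [dif_pos h, well_defined' n K u hy h.choose_spec.choose β h.choose_spec.choose_spec.symm]

theorem refine_g_comp : refineLift n K u (Δ := op ⦋n⦌) (𝟙 _) ≫ u = (refineMap n K u).app (op ⦋n⦌) := by
  rw [refineLift_comp]
  simp

/-- The family of all elements of a presheaf. -/
def eltFamily (P : Cᵒᵖ ⥤ Type u) : FormalCoproduct.{u} C := ⟨Σ U : C, P.obj (op U), fun i => i.1⟩

/-- The map from the representables of all elements. -/
noncomputable def fromEltFamily (P : Cᵒᵖ ⥤ Type u) : FormalCoproduct.yoneda.obj (eltFamily P) ⟶ P :=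
  Sigma.desc fun i => yonedaEquiv.symm i.2

/-- A morphism into a coproduct of representables, read on the family of elements. -/
noncomputable def readFamily {P : Cᵒᵖ ⥤ Type u} {Y : FormalCoproduct.{u} C} (v : P ⟶ FormalCoproduct.yoneda.obj Y) :
    eltFamily P ⟶ Y :=
  ⟨fun i => ((readHom Y).app (op i.1) (v.app (op i.1) i.2)).f PUnit.unit,
    fun i => ((readHom Y).app (op i.1) (v.app (op i.1) i.2)).φ PUnit.unit⟩

theorem fromEltFamily_comp {P : Cᵒᵖ ⥤ Type u} {Y : FormalCoproduct.{u} C} (v : P ⟶ FormalCoproduct.yoneda.obj Y) :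
    fromEltFamily P ≫ v = FormalCoproduct.yoneda.map (readFamily v) := Sigma.hom_ext _ _ fun i => by
  refine (Sigma.ι_desc_assoc _ _ _).trans ?_
  refine Eq.trans ?_ (show _ = Sigma.ι (fun i : (eltFamily P).I => CategoryTheory.yoneda.obj i.1) i ≫ FormalCoproduct.yoneda.map (readFamily v) from
    (Sigma.ι_desc (f := fun i : (eltFamily P).I => CategoryTheory.yoneda.obj i.1) _ _).symm)
  apply yonedaEquiv.injective
  rw [yonedaEquiv_comp, Equiv.apply_symm_apply]
  obtain ⟨w, hw⟩ := (ptEquiv i.1 Y).surjective (v.app (op i.1) i.2)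
  have hr : (readHom Y).app (op i.1) (v.app (op i.1) i.2) = w := by rw [← hw]; exact readHom_pt w
  refine hw.symm.trans ?_
  change pt w = (Sigma.ι (fun j => CategoryTheory.yoneda.obj (Y.obj j)) _).app (op i.1) (𝟙 i.1 ≫ _)
  rw [Category.id_comp]
  exact (congrArg pt hr).symm

theorem isLocallySurjective_readFamily {P : Cᵒᵖ ⥤ Type u} {Y : FormalCoproduct.{u} C}
    (v : P ⟶ FormalCoproduct.yoneda.obj Y) (hv : Presheaf.IsLocallySurjective J v) :
    Presheaf.IsLocallySurjective J (FormalCoproduct.yoneda.map (readFamily v)) := by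
  rw [← fromEltFamily_comp]
  have : Presheaf.IsLocallySurjective J (fromEltFamily P) := ⟨fun {U} s => by
    refine J.superset_covering (fun V g _ => ?_) (J.top_mem U)
    refine ⟨pt (FormalCoproduct.Hom.fromIncl (⟨V, P.map g.op s⟩ : (eltFamily P).I) (𝟙 V)), ?_⟩
    refine (congr($(congr_app (Sigma.ι_desc (f := fun i : (eltFamily P).I => CategoryTheory.yoneda.obj i.1)
      (fun i => yonedaEquiv.symm i.2) ⟨V, P.map g.op s⟩) (op V)) (𝟙 V))).trans ?_
    simp [yonedaEquiv]⟩
  exact Presheaf.isLocallySurjective_comp J _ _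

end Groth.L10.Hyper

namespace Groth.L10.Hyper

variable {C : Type u} [SmallCategory C]

theorem hasFiniteProducts_formalCoproduct_over [HasPullbacks C] (X : C) :
    HasFiniteProducts (FormalCoproduct.{u} (Over X)) :=
  have : HasTerminal (Over X) := Over.mkIdTerminal.hasTerminal
  have : HasBinaryProducts (FormalCoproduct.{u} (Over X)) := hasBinaryProducts_of_hasTerminal_and_pullbacks _
  hasFiniteProducts_of_has_binary_and_terminal

theorem exists_refinement [HasPullbacks C] (J : GrothendieckTopology C) (X : C)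
    [∀ (n : ℕ) (F : (SimplexCategory.Truncated n)ᵒᵖ ⥤ Limits.FormalCoproduct.{u} (Over X)),
      (SimplexCategory.Truncated.inclusion n).op.HasRightKanExtension F]
    (K : SimplicialObject (FormalCoproduct.{u} (Over X))) (hK : _root_.Hyper.IsHypercovering J X K) (n : ℕ)
    (Z : FormalCoproduct.{u} (Over X)) (u : Z ⟶ K.obj (op (SimplexCategory.mk n)))
    (hu : Presheaf.IsLocallySurjective (J.over X) (FormalCoproduct.yoneda.map u)) :
    ∃ (L : SimplicialObject (FormalCoproduct.{u} (Over X))) (f : L ⟶ K)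
      (g : L.obj (op (SimplexCategory.mk n)) ⟶ Z),
      _root_.Hyper.IsHypercovering J X L ∧ g ≫ u = f.app (op (SimplexCategory.mk n)) := by
  have := hasFiniteProducts_formalCoproduct_over X
  have hX := locFill_of_isHypercovering J X K hK
  refine ⟨refine' n K u, refineMap n K u, refineLift n K u (Δ := op ⦋n⦌) (𝟙 _), isHypercovering_of_fill J X _ ?_
    (homFill_refine n K u hu (homFill_of_locFill hX)), refine_g_comp n K u⟩
  refine cover_of_vertex J X _ (homVertex_refine n K u hu (fun U => ?_) _)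
  obtain ⟨S, hS, h⟩ := hX.vertex U
  exact ⟨S, hS, fun V g hg => (h g hg).map (fun s => (readHom _).app _ s)⟩

theorem exists_refinement_presheaf [HasPullbacks C] (J : GrothendieckTopology C) (X : C)
    [∀ (n : ℕ) (F : (SimplexCategory.Truncated n)ᵒᵖ ⥤ Limits.FormalCoproduct.{u} (Over X)),
      (SimplexCategory.Truncated.inclusion n).op.HasRightKanExtension F]
    (K : SimplicialObject (FormalCoproduct.{u} (Over X))) (hK : _root_.Hyper.IsHypercovering J X K) (n : ℕ)
    (P : (Over X)ᵒᵖ ⥤ Type u) (u : P ⟶ FormalCoproduct.yoneda.obj (K.obj (op (SimplexCategory.mk n))))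
    (hu : Presheaf.IsLocallySurjective (J.over X) u) :
    ∃ (L : SimplicialObject (FormalCoproduct.{u} (Over X))) (f : L ⟶ K)
      (g : FormalCoproduct.yoneda.obj (L.obj (op (SimplexCategory.mk n))) ⟶ P),
      _root_.Hyper.IsHypercovering J X L ∧ g ≫ u = FormalCoproduct.yoneda.map (f.app (op (SimplexCategory.mk n))) := by
  have := hasFiniteProducts_formalCoproduct_over X
  obtain ⟨L, f, g, hL, hg⟩ := exists_refinement J X K hK n _ (readFamily u) (isLocallySurjective_readFamily u hu)
  exact ⟨L, f, FormalCoproduct.yoneda.map g ≫ fromEltFamily P, hL, by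
    rw [Category.assoc, fromEltFamily_comp, ← Functor.map_comp, hg]⟩

end Groth.L10.Hyper
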