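import Groth.Agent.L10.Hyper.Pull
import Groth.Agent.L10.Hyper.Refine
import Groth.Agent.L10.Hyper.Exists
import Mathlib.CategoryTheory.Sites.Whiskering
import Mathlib.CategoryTheory.Sites.LocallyBijective

/-! Čech classes over all hypercoverings and sheaf cohomology. -/

universe u

open CategoryTheory CategoryTheory.Limits CategoryTheory.Abelian Opposite Simplicial

set_option backward.defeqAttrib.useBackward true
set_option backward.isDefEq.respectTransparency false
set_option linter.unusedSectionVars false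
namespace Groth.L10.Hyper

open Groth.L10.SiteCoh

variable {C : Type u} [SmallCategory C] [HasPullbacks C] {J : GrothendieckTopology C} {X : C}
  [∀ (n : ℕ) (F : (SimplexCategory.Truncated n)ᵒᵖ ⥤ Limits.FormalCoproduct.{u} (Over X)),
      (SimplexCategory.Truncated.inclusion n).op.HasRightKanExtension F]

/-- The value of a cochain at a point. -/
noncomputable def valAt {K : SimplicialObject (FormalCoproduct.{u} (Over X))} {P : Cᵒᵖ ⥤ AddCommGrpCat.{u}} {n : ℕ}
    (x : (cx K (rest X P)).X n) {V : Over X} (e : (FormalCoproduct.incl (Over X)).obj V ⟶ K _⦋n⦌) :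
    (rest X P).obj (op V) :=
  (rest X P).map (e.φ PUnit.unit).op (co (e.f PUnit.unit) x)

variable {K L : SimplicialObject (FormalCoproduct.{u} (Over X))} {P Q : Cᵒᵖ ⥤ AddCommGrpCat.{u}} {n : ℕ}

theorem valAt_comp (x : (cx K (rest X P)).X n) {V W : Over X} (a : W ⟶ V)
    (e : (FormalCoproduct.incl (Over X)).obj V ⟶ K _⦋n⦌) :
    valAt x ((FormalCoproduct.incl (Over X)).map a ≫ e) = (rest X P).map a.op (valAt x e) := by
  change (rest X P).map (a ≫ e.φ PUnit.unit).op _ = _
  rw [op_comp, Functor.map_comp]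
  rfl

theorem co_pull_eq_valAt (f : L ⟶ K) (x : (cx K (rest X P)).X n) (i : (L _⦋n⦌).I) :
    co i (pull f P n x) = valAt x (FormalCoproduct.Hom.fromIncl i (𝟙 _) ≫ f.app (op ⦋n⦌)) := by
  rw [co_pull]
  change _ = (rest X P).map (𝟙 _ ≫ (f.app (op ⦋n⦌)).φ i).op _
  rw [Category.id_comp]
  rfl

/-- The map on cochains induced by a map of presheaves. -/
noncomputable def push (K : SimplicialObject (FormalCoproduct.{u} (Over X))) (t : P ⟶ Q) (n : ℕ) :
    ((cx K (rest X P)).X n : Type u) →+ ((cx K (rest X Q)).X n : Type u) :=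
  ((cxMap K (Functor.whiskerLeft (Over.forget X).op t)).f n).hom

theorem co_push (t : P ⟶ Q) (i : (K _⦋n⦌).I) (x : (cx K (rest X P)).X n) :
    co i (push K t n x) = t.app (op ((K _⦋n⦌).obj i).left) (co i x) := co_map _ i x

theorem pull_push (f : L ⟶ K) (t : P ⟶ Q) (x : (cx K (rest X P)).X n) :
    pull f Q n (push K t n x) = push L t n (pull f P n x) := pull_map f t n x

theorem push_d (t : P ⟶ Q) (n m : ℕ) (x : (cx K (rest X P)).X n) :
    push K t m ((cx K (rest X P)).d n m x) = (cx K (rest X Q)).d n m (push K t n x) := cxMap_d _ n m x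

/-- Refining so that a local property holds at every index. -/
theorem exists_refine_prop (hK : _root_.Hyper.IsHypercovering J X K) (n : ℕ)
    (R : ∀ ⦃V : Over X⦄, ((FormalCoproduct.incl (Over X)).obj V ⟶ K _⦋n⦌) → Prop)
    (hstab : ∀ ⦃V W : Over X⦄ (a : W ⟶ V) (e : (FormalCoproduct.incl (Over X)).obj V ⟶ K _⦋n⦌),
      R e → R ((FormalCoproduct.incl (Over X)).map a ≫ e))
    (hloc : ∀ (U : Over X) (e : (FormalCoproduct.incl (Over X)).obj U ⟶ K _⦋n⦌), ∃ S ∈ J U.left,
      ∀ ⦃V : Over X⦄ (g : V ⟶ U), S g.left → R ((FormalCoproduct.incl (Over X)).map g ≫ e)) :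
    ∃ (L : SimplicialObject (FormalCoproduct.{u} (Over X))) (f : L ⟶ K), _root_.Hyper.IsHypercovering J X L ∧
      ∀ i : (L _⦋n⦌).I, R (FormalCoproduct.Hom.fromIncl i (𝟙 _) ≫ f.app (op ⦋n⦌)) := by
  let Z : FormalCoproduct.{u} (Over X) :=
    ⟨Σ V : Over X, {w : (FormalCoproduct.incl (Over X)).obj V ⟶ K _⦋n⦌ // R w}, fun i => i.1⟩
  let u : Z ⟶ K _⦋n⦌ := ⟨fun i => i.2.1.f PUnit.unit, fun i => i.2.1.φ PUnit.unit⟩
  have hZ : ∀ (V : Over X) (w : (FormalCoproduct.incl (Over X)).obj V ⟶ K _⦋n⦌) (hw : R w),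
      (FormalCoproduct.Hom.fromIncl (⟨V, w, hw⟩ : Z.I) (𝟙 V) : (FormalCoproduct.incl _).obj V ⟶ Z) ≫ u = w := fun V w hw => by
    rw [FormalCoproduct.hom_ext_iff']
    intro x
    refine ⟨rfl, ?_⟩
    cases x
    simp [u]
  have hu : Presheaf.IsLocallySurjective (J.over X) (FormalCoproduct.yoneda.map u) :=
    isLocallySurjective_of_pt _ u fun U e => by
      obtain ⟨S, hS, h⟩ := hloc U e
      refine ⟨_, GrothendieckTopology.overEquiv_symm_mem_over J U S hS, fun V g hg => ?_⟩
      rw [Sieve.overEquiv_symm_iff] at hg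
      exact ⟨_, hZ V _ (h g hg)⟩
  obtain ⟨L, f, g, hL, hg⟩ := exists_refinement J X K hK n Z u hu
  refine ⟨L, f, hL, fun i => ?_⟩
  rw [← hg]
  have hm := hstab (g.φ i) _ (g.f i).2.2
  convert hm using 1
  rw [FormalCoproduct.hom_ext_iff']
  intro x
  refine ⟨rfl, ?_⟩
  simp [u]

theorem exists_pull_eq_zero (hK : _root_.Hyper.IsHypercovering J X K) (t : P ⟶ Q) [Presheaf.IsLocallyInjective J t]
    (x : (cx K (rest X P)).X n) (hx : push K t n x = 0) :
    ∃ (L : SimplicialObject (FormalCoproduct.{u} (Over X))) (f : L ⟶ K), _root_.Hyper.IsHypercovering J X L ∧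
      pull f P n x = 0 := by
  obtain ⟨L, f, hL, h⟩ := exists_refine_prop hK n (fun _ e => valAt x e = 0)
    (fun V W a e h => (valAt_comp x a e).trans ((congrArg _ h).trans (map_zero _))) fun U e => by
      refine ⟨_, Presheaf.equalizerSieve_mem J t (X := op U.left) (valAt x e) 0 ?_, fun V g hg => ?_⟩
      · have h1 : t.app (op ((K _⦋n⦌).obj (e.f PUnit.unit)).left) (co (e.f PUnit.unit) x) = 0 := by
          rw [← co_push, hx, map_zero]
        refine (congr($(t.naturality (e.φ PUnit.unit).left.op) (co (e.f PUnit.unit) x))).trans ?_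
        refine (congrArg (Q.map (e.φ PUnit.unit).left.op) h1).trans ((map_zero _).trans (map_zero _).symm)
      · exact (valAt_comp x g e).trans (hg.trans (map_zero _))
  exact ⟨L, f, hL, co_ext fun i => (co_pull_eq_valAt f x i).trans ((h i).trans (map_zero _).symm)⟩

theorem exists_pull_eq_push (hK : _root_.Hyper.IsHypercovering J X K) (t : P ⟶ Q) [Presheaf.IsLocallySurjective J t]
    (y : (cx K (rest X Q)).X n) :
    ∃ (L : SimplicialObject (FormalCoproduct.{u} (Over X))) (f : L ⟶ K) (x : (cx L (rest X P)).X n),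
      _root_.Hyper.IsHypercovering J X L ∧ pull f Q n y = push L t n x := by
  obtain ⟨L, f, hL, h⟩ := exists_refine_prop hK n (fun V e => ∃ s : P.obj (op V.left), t.app (op V.left) s = valAt y e)
    (fun V W a e ⟨s, hs⟩ => ⟨P.map a.left.op s, (congr($(t.naturality a.left.op) s)).trans
      ((congrArg (Q.map a.left.op) hs).trans (valAt_comp y a e).symm)⟩) fun U e => by
      refine ⟨_, Presheaf.imageSieve_mem J t (valAt y e), fun V g hg => ?_⟩
      obtain ⟨s, hs⟩ := hg
      exact ⟨s, hs.trans (valAt_comp y g e).symm⟩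
  choose s hs using h
  exact ⟨L, f, mk s, hL, co_ext fun i => by rw [co_pull_eq_valAt, co_push, co_mk, hs i]⟩

/-- Being a coboundary. -/
def Bd (K : SimplicialObject (FormalCoproduct.{u} (Over X))) (P : Cᵒᵖ ⥤ AddCommGrpCat.{u}) :
    ∀ q : ℕ, ((cx K (rest X P)).X q : Type u) → Prop
  | 0 => fun x => x = 0
  | q + 1 => fun x => ∃ w, (cx K (rest X P)).d q (q + 1) w = x

theorem Bd.zero (q : ℕ) : Bd K P q 0 := match q with
  | 0 => rfl
  | _ + 1 => ⟨0, map_zero _⟩

theorem Bd.pull {q : ℕ} {x : (cx K (rest X P)).X q} (f : L ⟶ K) (h : Bd K P q x) :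
    Bd L P q (Hyper.pull f P q x) := by
  cases q with
  | zero => exact (congrArg _ h).trans (map_zero _)
  | succ q => obtain ⟨w, hw⟩ := h; exact ⟨Hyper.pull f P q w, by rw [← pull_d, hw]⟩

theorem Bd.push {q : ℕ} {x : (cx K (rest X P)).X q} (t : P ⟶ Q) (h : Bd K P q x) :
    Bd K Q q (Hyper.push K t q x) := by
  cases q with
  | zero => exact (congrArg _ h).trans (map_zero _)
  | succ q => obtain ⟨w, hw⟩ := h; exact ⟨Hyper.push K t q w, by rw [← push_d, hw]⟩

variable (J X) in
/-- All cocycles die on some refinement. -/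
def Die (P : Cᵒᵖ ⥤ AddCommGrpCat.{u}) (q : ℕ) : Prop :=
  ∀ K : SimplicialObject (FormalCoproduct.{u} (Over X)), _root_.Hyper.IsHypercovering J X K →
    ∀ z : (cx K (rest X P)).X q, (cx K (rest X P)).d q (q + 1) z = 0 →
      ∃ (L : SimplicialObject (FormalCoproduct.{u} (Over X))) (f : L ⟶ K), _root_.Hyper.IsHypercovering J X L ∧
        Bd L P q (pull f P q z)

omit [HasPullbacks C] [∀ (n : ℕ) (F : (SimplexCategory.Truncated n)ᵒᵖ ⥤ Limits.FormalCoproduct.{u} (Over X)),
      (SimplexCategory.Truncated.inclusion n).op.HasRightKanExtension F] in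
theorem homologyπ_eq_zero_iff {q : ℕ} (z : (cx K (rest X P)).cycles q) :
    (cx K (rest X P)).homologyπ q z = 0 ↔ Bd K P q ((cx K (rest X P)).iCycles q z) := by
  have hi : Function.Injective ((cx K (rest X P)).iCycles q) := (AddCommGrpCat.mono_iff_injective _).1 inferInstance
  cases q with
  | zero =>
    have : IsIso ((cx K (rest X P)).homologyπ 0) := (cx K (rest X P)).isIso_homologyπ 0 0 (by simp) (by simp)
    have hp : Function.Injective ((cx K (rest X P)).homologyπ 0) := (AddCommGrpCat.mono_iff_injective _).1 inferInstance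
    exact ⟨fun h => (congrArg _ (hp (h.trans (map_zero _).symm))).trans (map_zero _),
      fun h => (congrArg _ (hi (h.trans (map_zero _).symm))).trans (map_zero _)⟩
  | succ q =>
    have h := ShortComplex.exact_of_g_is_cokernel (ShortComplex.mk _ _ ((cx K (rest X P)).toCycles_comp_homologyπ q (q + 1))) ((cx K (rest X P)).homologyIsCokernel q (q + 1) (by simp))
    rw [ShortComplex.ab_exact_iff] at h
    refine ⟨fun hz => ?_, fun ⟨w, hw⟩ => ?_⟩
    · obtain ⟨w, hw⟩ := h z hz
      exact ⟨w, (congr($((cx K (rest X P)).toCycles_i q (q + 1)) w)).symm.trans (congrArg _ hw)⟩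
    · have : (cx K (rest X P)).toCycles q (q + 1) w = z :=
        hi ((congr($((cx K (rest X P)).toCycles_i q (q + 1)) w)).trans hw)
      rw [← this]
      exact congr($((cx K (rest X P)).toCycles_comp_homologyπ q (q + 1)) w)

theorem die_iff (P : Cᵒᵖ ⥤ AddCommGrpCat.{u}) (q : ℕ) :
    Die J X P q ↔ ∀ (K : SimplicialObject (FormalCoproduct.{u} (Over X))), _root_.Hyper.IsHypercovering J X K →
      ∀ ξ : _root_.Hyper.cechH X K P q, ∃ (L : SimplicialObject (FormalCoproduct.{u} (Over X))) (f : L ⟶ K),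
        _root_.Hyper.IsHypercovering J X L ∧ _root_.Hyper.cechHMap X f P q ξ = 0 := by
  refine ⟨fun h K hK ξ => ?_, fun h K hK z hz => ?_⟩
  · obtain ⟨z, rfl⟩ := (AddCommGrpCat.epi_iff_surjective ((cx K (rest X P)).homologyπ q)).1 inferInstance ξ
    obtain ⟨L, f, hL, hb⟩ := h K hK _ congr($((cx K (rest X P)).iCycles_d q (q + 1)) z)
    refine ⟨L, f, hL, ?_⟩
    rw [cechHMap_π, homologyπ_eq_zero_iff, iCycles_cyclesMap]
    exact hb
  · have hk := ShortComplex.exact_of_f_is_kernel (ShortComplex.mk _ _ ((cx K (rest X P)).iCycles_d q (q + 1)))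
      ((cx K (rest X P)).cyclesIsKernel q (q + 1) (by simp))
    rw [ShortComplex.ab_exact_iff] at hk
    obtain ⟨c, hc⟩ := hk z hz
    change (cx K (rest X P)).iCycles q c = z at hc
    obtain ⟨L, f, hL, hb⟩ := h K hK ((cx K (rest X P)).homologyπ q c)
    refine ⟨L, f, hL, ?_⟩
    rw [cechHMap_π, homologyπ_eq_zero_iff, iCycles_cyclesMap, hc] at hb
    exact hb

theorem die_of_isZero_sheafify (N : Cᵒᵖ ⥤ AddCommGrpCat.{u})
    (hN : IsZero ((presheafToSheaf J AddCommGrpCat.{u}).obj N)) (q : ℕ) : Die J X N q := fun K hK z _ => by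
  have h0 : toSheafify J N = 0 := ((sheafToPresheaf J AddCommGrpCat.{u}).map_isZero hN).eq_of_tgt _ _
  obtain ⟨L, f, hL, h⟩ := exists_pull_eq_zero hK (toSheafify J N) z (co_ext fun i => by
    rw [co_push, map_zero, h0]; rfl)
  exact ⟨L, f, hL, h ▸ Bd.zero q⟩

/-- Sheafification does not change the dying of classes. -/
theorem die_iff_of_locallyBijective (t : P ⟶ Q) [Presheaf.IsLocallyInjective J t] [Presheaf.IsLocallySurjective J t]
    (q : ℕ) : Die J X P q ↔ Die J X Q q := by
  refine ⟨fun h K hK y hy => ?_, fun h K hK z hz => ?_⟩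
  · obtain ⟨L, f, x, hL, hx⟩ := exists_pull_eq_push hK t y
    obtain ⟨L', f', hL', hx'⟩ := exists_pull_eq_zero hL t ((cx L (rest X P)).d q (q + 1) x)
      (by rw [push_d, ← hx, ← pull_d, hy, map_zero])
    obtain ⟨M, g, hM, hb⟩ := h L' hL' (pull f' P q x) (by rw [← pull_d, hx'])
    refine ⟨M, g ≫ f' ≫ f, hM, ?_⟩
    rw [← pull_pull, ← pull_pull, hx, pull_push, pull_push]
    exact hb.push t
  · obtain ⟨L, f, hL, hb⟩ := h K hK (push K t q z) (by rw [← push_d, hz, map_zero])
    rw [pull_push] at hb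
    cases q with
    | zero =>
      obtain ⟨M, g, hM, h0⟩ := exists_pull_eq_zero hL t (pull f P 0 z) hb
      exact ⟨M, g ≫ f, hM, by rw [← pull_pull]; exact h0⟩
    | succ q =>
      obtain ⟨w, hw⟩ := hb
      obtain ⟨L', f', s, hL', hs⟩ := exists_pull_eq_push hL t w
      obtain ⟨M, g, hM, h0⟩ := exists_pull_eq_zero hL' t
        (pull f' P (q + 1) (pull f P (q + 1) z) - (cx L' (rest X P)).d q (q + 1) s)
        (by rw [map_sub, ← pull_push, ← hw, pull_d, hs, push_d, sub_self])
      refine ⟨M, g ≫ f' ≫ f, hM, pull g P q s, ?_⟩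
      rw [← pull_pull, ← pull_pull, ← pull_d, eq_comm, ← sub_eq_zero, ← map_sub, h0]

/-- The cochain of a global section. -/
noncomputable def augX (K : SimplicialObject (FormalCoproduct.{u} (Over X))) (P : Cᵒᵖ ⥤ AddCommGrpCat.{u})
    (s : P.obj (op X)) : (cx K (rest X P)).X 0 :=
  mk fun i => P.map ((K _⦋0⦌).obj i).hom.op s

theorem d_augX (s : P.obj (op X)) : (cx K (rest X P)).d 0 1 (augX K P s) = 0 := co_ext fun i => by
  rw [co_d, map_zero, Fin.sum_univ_two]
  have h : ∀ j : Fin 2, (rest X P).map ((K.δ j).φ i).op (co ((K.δ j).f i) (augX K P s)) = P.map ((K _⦋1⦌).obj i).hom.op s := fun j => by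
    rw [augX, co_mk]
    change (P.map _ ≫ P.map _) s = _
    rw [← P.map_comp]
    exact congrArg (fun t => P.map t s) (congrArg Quiver.Hom.op (Over.w ((K.δ j).φ i)))
  rw [h, h]
  simp

theorem pull_augX (f : L ⟶ K) (s : P.obj (op X)) : pull f P 0 (augX K P s) = augX L P s := co_ext fun i => by
  rw [co_pull, augX, augX, co_mk, co_mk]
  change (P.map _ ≫ P.map _) s = _
  rw [← P.map_comp]
  exact congrArg (fun t => P.map t s) (congrArg Quiver.Hom.op (Over.w ((f.app (op ⦋0⦌)).φ i)))

theorem push_augX (t : P ⟶ Q) (s : P.obj (op X)) :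
    push K t 0 (augX K P s) = augX K Q (t.app (op X) s) := co_ext fun i => by
  rw [co_push, augX, augX, co_mk, co_mk]
  exact congr($(t.naturality ((K _⦋0⦌).obj i).hom.op) s)

theorem augX_injective (hK : _root_.Hyper.IsHypercovering J X K) (F : Sheaf J AddCommGrpCat.{u}) {s : F.obj.obj (op X)}
    (h : augX K F.obj s = 0) : s = 0 := by
  refine Sheaf.isSeparated F X _ hK.1 s 0 ?_
  rintro V g ⟨W, a, _, ⟨i⟩, rfl⟩
  have h' := congrArg (co i) h
  rw [augX, co_mk, map_zero] at h'
  rw [op_comp, Functor.map_comp]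
  change F.obj.map a.op (F.obj.map ((K _⦋0⦌).obj i).hom.op s) = F.obj.map a.op (F.obj.map ((K _⦋0⦌).obj i).hom.op 0)
  rw [h']
  simp

theorem exists_augX (hK : _root_.Hyper.IsHypercovering J X K) (F : Sheaf J AddCommGrpCat.{u})
    (x : (cx K (rest X F.obj)).X 0) (hx : (cx K (rest X F.obj)).d 0 1 x = 0) : ∃ s, augX K F.obj s = x := by
  obtain ⟨χ, rfl⟩ := exists_of_cocycle (locFill_of_isHypercovering J X K hK) ((J.overPullback AddCommGrpCat.{u} X).obj F) x hx
  refine ⟨χ.app (op (Over.mk (𝟙 X))) (FreeAbelianGroup.of PUnit.unit), co_ext fun i => ?_⟩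
  rw [augX, co_mk]
  let w : (K _⦋0⦌).obj i ⟶ Over.mk (𝟙 X) := Over.homMk ((K _⦋0⦌).obj i).hom
  refine (congr($(χ.naturality w.op) (FreeAbelianGroup.of PUnit.unit))).symm.trans ?_
  refine Eq.trans ?_ (co_cochainEquiv _ i).symm
  refine congrArg (χ.app _) ?_
  exact (FreeAbelianGroup.map_of_apply (f := fun _ : Sec (sps K) 0 ((K _⦋0⦌).obj i) => PUnit.unit.{u + 1}) (gen i)).symm

theorem exists_isHypercovering : ∃ K : SimplicialObject (FormalCoproduct.{u} (Over X)), _root_.Hyper.IsHypercovering J X K := by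
  obtain ⟨K, hK, -⟩ := exists_hypercovering (B := (Set.univ : Set C)) (J := J) (fun U =>
    ⟨PUnit, fun _ => U, fun _ => 𝟙 U, J.superset_covering
      (fun V g _ => ⟨U, g, _, ⟨PUnit.unit⟩, Category.comp_id g⟩) (J.top_mem U), fun _ => Set.mem_univ _⟩) X
  exact ⟨K, hK⟩

theorem die_zero_iff (F : Sheaf J AddCommGrpCat.{u}) : Die J X F.obj 0 ↔ ∀ s : F.obj.obj (op X), s = 0 := by
  refine ⟨fun h s => ?_, fun h K hK z hz => ?_⟩
  · obtain ⟨K, hK⟩ := exists_isHypercovering (J := J) (X := X)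
    obtain ⟨L, f, hL, hb⟩ := h K hK _ (d_augX s)
    rw [pull_augX] at hb
    exact augX_injective hL F hb
  · obtain ⟨s, rfl⟩ := exists_augX hK F z hz
    have h0 : augX K F.obj 0 = 0 := co_ext fun i => by rw [augX, co_mk, map_zero, map_zero]
    refine ⟨K, 𝟙 K, hK, ?_⟩
    change pull _ _ _ _ = 0
    rw [h s, h0, map_zero]

section

variable {S : ShortComplex (Sheaf J AddCommGrpCat.{u})}

theorem exists_push_f (hS : S.ShortExact) (x : (cx K (rest X S.X₂.obj)).X n) (hx : push K S.g.hom n x = 0) :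
    ∃ v, push K S.f.hom n v = x := by
  choose v hv using fun i : (K _⦋n⦌).I => Cech.app_exact hS ((K _⦋n⦌).obj i).left (co i x) (by
    rw [← co_push, hx, map_zero])
  exact ⟨mk v, co_ext fun i => by rw [co_push, co_mk]; exact hv i⟩

theorem push_f_injective (hS : S.ShortExact) : Function.Injective (push K S.f.hom n) := fun x y h =>
  co_ext fun i => Cech.app_injective hS _ ((co_push _ i x).symm.trans ((congrArg (co i) h).trans (co_push _ i y)))

theorem push_g_f (x : (cx K (rest X S.X₁.obj)).X n) : push K S.g.hom n (push K S.f.hom n x) = 0 :=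
  co_ext fun i => by
    rw [co_push, co_push, map_zero]
    exact congr($(congr_app (congrArg (fun t => t.hom) S.zero) (op ((K _⦋n⦌).obj i).left)) (co i x))

theorem isLocallySurjective_g (hS : S.ShortExact) : Presheaf.IsLocallySurjective J S.g.hom := by
  have := hS.epi_g
  exact (Sheaf.isLocallySurjective_iff_epi' _ S.g).2 inferInstance

theorem exists_d_of_injective (I : Sheaf J AddCommGrpCat.{u}) [Injective I] (hK : _root_.Hyper.IsHypercovering J X K)
    (q : ℕ) (x : (cx K (rest X I.obj)).X (q + 1)) (hx : (cx K (rest X I.obj)).d (q + 1) (q + 1 + 1) x = 0) :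
    ∃ w, (cx K (rest X I.obj)).d q (q + 1) w = x := by
  have := InjOverRes.injective_overPullback J X I
  have h := isZero_homology_of_injective (locFill_of_isHypercovering J X K hK) ((J.overPullback AddCommGrpCat.{u} X).obj I) q
  rw [← HomologicalComplex.exactAt_iff_isZero_homology,
    HomologicalComplex.exactAt_iff' _ q (q + 1) (q + 1 + 1) (by simp) (by simp), ShortComplex.ab_exact_iff] at h
  exact h x hx

variable (hS : S.ShortExact) [Injective S.X₂]
include hS

theorem die_succ_succ_iff (q : ℕ) : Die J X S.X₁.obj (q + 1 + 1) ↔ Die J X S.X₃.obj (q + 1) := by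
  have := isLocallySurjective_g hS
  refine ⟨fun h K hK y hy => ?_, fun h K hK z hz => ?_⟩
  · obtain ⟨L, f, x, hL, hx⟩ := exists_pull_eq_push hK S.g.hom y
    obtain ⟨z, hz⟩ := exists_push_f hS ((cx L (rest X S.X₂.obj)).d (q + 1) (q + 1 + 1) x)
      (by rw [push_d, ← hx, ← pull_d, hy, map_zero])
    obtain ⟨M, g, hM, v, hv⟩ := h L hL z (push_f_injective hS (by
      rw [push_d, hz, map_zero]
      exact congr($((cx L (rest X S.X₂.obj)).d_comp_d (q + 1) (q + 1 + 1) (q + 1 + 1 + 1)) x)))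
    obtain ⟨s, hs⟩ := exists_d_of_injective S.X₂ hM q (pull g S.X₂.obj (q + 1) x - push M S.f.hom (q + 1) v) (by
      rw [map_sub, ← push_d, hv, ← pull_push, hz, ← pull_d, sub_self])
    refine ⟨M, g ≫ f, hM, push M S.g.hom q s, ?_⟩
    rw [← push_d, hs, map_sub, push_g_f, sub_zero, ← pull_push, ← hx, pull_pull]
  · obtain ⟨w, hw⟩ := exists_d_of_injective S.X₂ hK (q + 1) (push K S.f.hom _ z) (by rw [← push_d, hz, map_zero])
    obtain ⟨L, f, hL, t, ht⟩ := h K hK (push K S.g.hom _ w) (by rw [← push_d, hw, push_g_f])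
    obtain ⟨M, g, s, hM, hs⟩ := exists_pull_eq_push hL S.g.hom t
    obtain ⟨v, hv⟩ := exists_push_f hS (pull g S.X₂.obj (q + 1) (pull f S.X₂.obj (q + 1) w) - (cx M (rest X S.X₂.obj)).d q (q + 1) s)
      (by rw [map_sub, push_d, ← hs, ← pull_d, ht, pull_push, pull_push, sub_self])
    refine ⟨M, g ≫ f, hM, v, push_f_injective hS ?_⟩
    rw [push_d, hv, map_sub, ← pull_pull, ← pull_push, ← pull_push, ← pull_d, ← pull_d, hw]
    exact (congrArg (_ - ·) congr($((cx M (rest X S.X₂.obj)).d_comp_d q (q + 1) (q + 1 + 1)) s)).trans (sub_zero _)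

theorem die_one_iff : Die J X S.X₁.obj 1 ↔ Function.Surjective (S.g.hom.app (op X)) := by
  have := isLocallySurjective_g hS
  refine ⟨fun h s => ?_, fun h K hK z hz => ?_⟩
  · obtain ⟨K, hK⟩ := exists_isHypercovering (J := J) (X := X)
    obtain ⟨L, f, x, hL, hx⟩ := exists_pull_eq_push hK S.g.hom (augX K S.X₃.obj s)
    rw [pull_augX] at hx
    obtain ⟨z, hz⟩ := exists_push_f hS ((cx L (rest X S.X₂.obj)).d 0 1 x) (by rw [push_d, ← hx, d_augX])
    obtain ⟨M, g, hM, v, hv⟩ := h L hL z (push_f_injective hS (by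
      rw [push_d, hz, map_zero]
      exact congr($((cx L (rest X S.X₂.obj)).d_comp_d 0 1 (1 + 1)) x)))
    obtain ⟨t, ht⟩ := exists_augX hM S.X₂ (pull g S.X₂.obj 0 x - push M S.f.hom 0 v) (by
      rw [map_sub, ← push_d, hv, ← pull_push, hz, ← pull_d, sub_self])
    refine ⟨t, sub_eq_zero.1 (augX_injective hM S.X₃ ?_)⟩
    refine (?_ : augX M S.X₃.obj (S.g.hom.app (op X) t - s) = augX M S.X₃.obj (S.g.hom.app (op X) t) - augX M S.X₃.obj s).trans
      (sub_eq_zero.2 ?_)
    · exact co_ext fun i => by simp only [augX, co_mk, map_sub]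
    · rw [← push_augX, ht, map_sub, push_g_f, sub_zero, ← pull_push, ← hx, pull_augX]
  · obtain ⟨w, hw⟩ := exists_d_of_injective S.X₂ hK 0 (push K S.f.hom _ z) (by rw [← push_d, hz, map_zero])
    obtain ⟨s, hs⟩ := exists_augX hK S.X₃ (push K S.g.hom _ w) (by rw [← push_d, hw, push_g_f])
    obtain ⟨t, rfl⟩ := h s
    obtain ⟨v, hv⟩ := exists_push_f hS (w - augX K S.X₂.obj t) (by rw [map_sub, push_augX, hs, sub_self])
    refine ⟨K, 𝟙 K, hK, v, push_f_injective hS ?_⟩
    rw [push_d, hv, map_sub, d_augX, sub_zero, hw, ← pull_push]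
    exact co_ext fun i => by rw [co_pull]; exact (congr($((rest X S.X₂.obj).map_id _) _)).symm

end

theorem subsingleton_iff_die (F : Sheaf J AddCommGrpCat.{u}) (q : ℕ) :
    Subsingleton (CohSite.HU F q X) ↔ Die J X F.obj q := by
  induction q generalizing F with
  | zero =>
    rw [die_zero_iff]
    refine ⟨fun h s => (hu0 F X).symm.injective (h.elim _ _), fun h => ⟨fun a b => (hu0 F X).injective ((h _).trans (h _).symm)⟩⟩
  | succ q ih =>
    have hS := hull_shortExact F
    cases q with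
    | zero =>
      refine Iff.trans ?_ (die_one_iff hS).symm
      refine ⟨fun h => ?_, fun h => subsingleton_of_forall_eq 0 fun x =>
        eq_zero_of_surjective_sections hS X h x (Ext.eq_zero_of_injective _)⟩
      have : Subsingleton (Ext (fs J X) (hull F).X₁ 1) := h
      exact surjective_sections_of_subsingleton hS X
    | succ q =>
      refine Iff.trans ?_ ((ih (hull F).X₃).trans (die_succ_succ_iff hS q).symm)
      have := fun m => Ext.subsingleton_of_injective (fs J X) (hull F).X₂ m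
      exact (extShift (fs J X) hS q).toEquiv.subsingleton_congr.symm

theorem subsingleton_sheafify_iff_die (G : Cᵒᵖ ⥤ AddCommGrpCat.{u}) (q : ℕ) :
    Subsingleton (CohSite.HU ((presheafToSheaf J AddCommGrpCat.{u}).obj G) q X) ↔ Die J X G q :=
  (subsingleton_iff_die _ q).trans (die_iff_of_locallyBijective (toSheafify J G) q).symm

end Groth.L10.Hyper
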