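import Groth.Agent.L10.Hyper.Cases

/-! Locally fillable simplicial formal coproducts are hypercoverings. -/

universe u

open CategoryTheory CategoryTheory.Limits Opposite Simplicial

set_option backward.defeqAttrib.useBackward true
set_option backward.isDefEq.respectTransparency false
namespace Groth.L10.Hyper

variable {C : Type u} [SmallCategory C]

theorem isSRCovering_of_isLocallySurjective (J : GrothendieckTopology C) {K L : FormalCoproduct.{u} C} (f : K ⟶ L)
    (hf : Presheaf.IsLocallySurjective J (FormalCoproduct.yoneda.map f)) : _root_.Hyper.IsSRCovering J f := fun j => by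
  refine J.superset_covering ?_ (hf.imageSieve_mem (pt (FormalCoproduct.Hom.fromIncl j (𝟙 (L.obj j)))))
  rintro V g ⟨s, hs⟩
  obtain ⟨w, rfl⟩ := (ptEquiv V K).surjective s
  have h : w ≫ f = (FormalCoproduct.incl C).map g ≫ FormalCoproduct.Hom.fromIncl j (𝟙 (L.obj j)) :=
    pt_eq_iff ((pt_comp w f).symm.trans (hs.trans (pt_res _ g)))
  obtain ⟨h₁, h₂⟩ := (FormalCoproduct.hom_ext_iff' _ _).1 h PUnit.unit
  refine ⟨_, w.φ PUnit.unit, _, ⟨(⟨w.f PUnit.unit, h₁⟩ : {i : K.I // f.f i = j})⟩, ?_⟩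
  simpa [Category.assoc] using h₂

theorem isSRCovering_iff (J : GrothendieckTopology C) {K L : FormalCoproduct.{u} C} (f : K ⟶ L) :
    _root_.Hyper.IsSRCovering J f ↔ Presheaf.IsLocallySurjective J (FormalCoproduct.yoneda.map f) :=
  ⟨isLocallySurjective_of_isSRCovering J f, isSRCovering_of_isLocallySurjective J f⟩

theorem isLocallySurjective_of_pt (J : GrothendieckTopology C) {K L : FormalCoproduct.{u} C} (f : K ⟶ L)
    (h : ∀ (U : C) (e : (FormalCoproduct.incl C).obj U ⟶ L), ∃ S ∈ J U, ∀ ⦃V⦄ (g : V ⟶ U), S g →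
      ∃ w : (FormalCoproduct.incl C).obj V ⟶ K, w ≫ f = (FormalCoproduct.incl C).map g ≫ e) :
    Presheaf.IsLocallySurjective J (FormalCoproduct.yoneda.map f) := ⟨fun {U} s => by
  obtain ⟨e, rfl⟩ := (ptEquiv U L).surjective s
  obtain ⟨S, hS, h'⟩ := h U e
  refine J.superset_covering (fun V g hg => ?_) hS
  obtain ⟨w, hw⟩ := h' g hg
  exact ⟨pt w, (pt_comp w f).trans ((congrArg pt hw).trans (pt_res e g).symm)⟩⟩

theorem exists_lift_of_isLocallySurjective (J : GrothendieckTopology C) {K L : FormalCoproduct.{u} C} (f : K ⟶ L)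
    (hf : Presheaf.IsLocallySurjective J (FormalCoproduct.yoneda.map f)) (U : C)
    (e : (FormalCoproduct.incl C).obj U ⟶ L) : ∃ S ∈ J U, ∀ ⦃V⦄ (g : V ⟶ U), S g →
      ∃ w : (FormalCoproduct.incl C).obj V ⟶ K, w ≫ f = (FormalCoproduct.incl C).map g ≫ e := by
  refine ⟨_, hf.imageSieve_mem (pt e), ?_⟩
  rintro V g ⟨s, hs⟩
  obtain ⟨w, rfl⟩ := (ptEquiv V K).surjective s
  exact ⟨w, pt_eq_iff ((pt_comp w f).symm.trans (hs.trans (pt_res e g)))⟩

section

variable {n : ℕ} {U : C} {L : SimplicialObject (FormalCoproduct.{u} C)}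

/-- The simplex of a point. -/
noncomputable def ofTop (e : (FormalCoproduct.incl C).obj U ⟶ L _⦋n + 1⦌) : simplexObj n U ⟶ L where
  app Δ := ⟨fun α => (e ≫ L.map α.down.op).f PUnit.unit, fun α => (e ≫ L.map α.down.op).φ PUnit.unit⟩
  naturality Δ Δ' θ := by
    rw [FormalCoproduct.hom_ext_iff']
    intro α
    have h : e ≫ L.map (θ.unop ≫ α.down).op = (e ≫ L.map α.down.op) ≫ L.map θ := by
      rw [op_comp, Functor.map_comp, Category.assoc]
      rfl
    obtain ⟨h₁, h₂⟩ := (FormalCoproduct.hom_ext_iff' _ _).1 h PUnit.unit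
    refine ⟨h₁, Eq.trans ?_ h₂⟩
    exact congrArg (· ≫ _) (Category.id_comp _)

theorem top_ofTop (e : (FormalCoproduct.incl C).obj U ⟶ L _⦋n + 1⦌) :
    (FormalCoproduct.Hom.fromIncl ⟨𝟙 _⟩ (𝟙 U) : (FormalCoproduct.incl C).obj U ⟶ (simplexObj n U).obj (op ⦋n + 1⦌)) ≫
      (ofTop e).app (op ⦋n + 1⦌) = e := by
  have h : e ≫ L.map (𝟙 (⦋n + 1⦌ : SimplexCategory)).op = e := by simp
  obtain ⟨h₁, h₂⟩ := (FormalCoproduct.hom_ext_iff' _ _).1 h PUnit.unit
  rw [FormalCoproduct.hom_ext_iff']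
  intro x
  refine ⟨h₁, Eq.trans ?_ h₂⟩
  exact congrArg (· ≫ _) (Category.id_comp _)

variable [∀ (F : (SimplexCategory.Truncated n)ᵒᵖ ⥤ FormalCoproduct.{u} C),
      (SimplexCategory.Truncated.inclusion n).op.HasRightKanExtension F]
  {K : SimplicialObject (FormalCoproduct.{u} C)}

/-- The boundary of a point of the coskeleton. -/
noncomputable def bdryOf (e : (FormalCoproduct.incl C).obj U ⟶
      ((SimplicialObject.Truncated.cosk n).obj ((SimplicialObject.truncation n).obj K)).obj (op ⦋n + 1⦌))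
    (j : Fin (n + 2)) : (FormalCoproduct.incl C).obj U ⟶ K _⦋n⦌ :=
  e ≫ ((SimplicialObject.Truncated.cosk n).obj ((SimplicialObject.truncation n).obj K)).map (SimplexCategory.δ j).op ≫
    ((SimplicialObject.coskAdj n).counit.app ((SimplicialObject.truncation n).obj K)).app (op ⟨⦋n⦌, by simp⟩)

theorem coskHom_ext (e e' : (FormalCoproduct.incl C).obj U ⟶
      ((SimplicialObject.Truncated.cosk n).obj ((SimplicialObject.truncation n).obj K)).obj (op ⦋n + 1⦌))
    (h : ∀ j, bdryOf e j = bdryOf e' j) : e = e' := by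
  let ε := (SimplicialObject.coskAdj n).counit.app ((SimplicialObject.truncation n).obj K)
  let L := (SimplicialObject.Truncated.cosk n).obj ((SimplicialObject.truncation n).obj K)
  suffices ofTop e = ofTop e' by
    rw [← top_ofTop e, this, top_ofTop e']
  refine ((SimplicialObject.coskAdj n).homEquiv _ _).symm.injective ?_
  rw [Adjunction.homEquiv_counit, Adjunction.homEquiv_counit]
  refine NatTrans.ext (funext fun Δ => simplexObj_incl' _ _ fun α => ?_)
  obtain ⟨j, β, hβ⟩ := exists_factor Δ.unop.property α.down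
  let β' : (op ⟨⦋n⦌, by simp⟩ : (SimplexCategory.Truncated n)ᵒᵖ) ⟶ Δ := Quiver.Hom.op ⟨β⟩
  have key : ∀ t : (FormalCoproduct.incl C).obj U ⟶ L.obj (op ⦋n + 1⦌),
      (t ≫ L.map α.down.op) ≫ ε.app Δ = bdryOf t j ≫ K.map β.op := fun t => by
    have hn : L.map β.op ≫ ε.app Δ = ε.app (op ⟨⦋n⦌, by simp⟩) ≫ K.map β.op := ε.naturality β'
    rw [hβ, op_comp, Functor.map_comp]
    simp only [Category.assoc]
    rw [hn]
    simp only [bdryOf, Category.assoc]
    rfl
  obtain ⟨h₁, h₂⟩ := (FormalCoproduct.hom_ext_iff' _ _).1 ((key e).trans ((congrArg (· ≫ K.map β.op) (h j)).trans (key e').symm)) PUnit.unit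
  exact ⟨h₁, h₂⟩
where
  simplexObj_incl' {Δ : SimplexCategoryᵒᵖ} {Y : FormalCoproduct.{u} C} (f g : (simplexObj n U).obj Δ ⟶ Y)
      (h : ∀ α, ∃ h₁ : f.f α = g.f α, f.φ α ≫ eqToHom (congrArg Y.obj h₁) = g.φ α) : f = g :=
    (FormalCoproduct.hom_ext_iff' _ _).2 h

theorem bdryOf_compat (e : (FormalCoproduct.incl C).obj U ⟶
      ((SimplicialObject.Truncated.cosk n).obj ((SimplicialObject.truncation n).obj K)).obj (op ⦋n + 1⦌)) :
    Compat (fun j => bdryOf e j) := by
  rintro m rfl i j hij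
  simp only [Fin.cast_refl, id_eq]
  let T := SimplexCategory.Truncated (m + 1)
  let ε := (SimplicialObject.coskAdj (m + 1)).counit.app ((SimplicialObject.truncation (m + 1)).obj K)
  let L := (SimplicialObject.Truncated.cosk (m + 1)).obj ((SimplicialObject.truncation (m + 1)).obj K)
  have hn : ∀ k : Fin (m + 2), L.map (SimplexCategory.δ k).op ≫ ε.app (op ⟨⦋m⦌, by simp⟩) =
      ε.app (op ⟨⦋m + 1⦌, by simp⟩) ≫ K.δ k := fun k =>
    ε.naturality (Quiver.Hom.op ⟨SimplexCategory.δ k⟩ : (op ⟨⦋m + 1⦌, by simp⟩ : Tᵒᵖ) ⟶ op ⟨⦋m⦌, by simp⟩)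
  simp only [bdryOf, Category.assoc]
  erw [← hn i, ← hn j]
  have h := congrArg (fun t => e ≫ L.map (Quiver.Hom.op t) ≫ ε.app (op ⟨⦋m⦌, by simp⟩)) (SimplexCategory.δ_comp_δ hij)
  simp only [op_comp, Functor.map_comp, Category.assoc] at h
  exact h

theorem isLocallySurjective_unit (J : GrothendieckTopology C)
    (hfill : ∀ (U : C) (y : Fin (n + 2) → ((FormalCoproduct.incl C).obj U ⟶ K _⦋n⦌)), Compat y →
      ∃ S ∈ J U, ∀ ⦃V⦄ (g : V ⟶ U), S g → ∃ w : (FormalCoproduct.incl C).obj V ⟶ K _⦋n + 1⦌,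
        ∀ j, w ≫ K.δ j = (FormalCoproduct.incl C).map g ≫ y j) :
    Presheaf.IsLocallySurjective J
      (FormalCoproduct.yoneda.map (((SimplicialObject.coskAdj n).unit.app K).app (op ⦋n + 1⦌))) :=
  isLocallySurjective_of_pt J _ fun U e => by
    obtain ⟨S, hS, h⟩ := hfill U (fun j => bdryOf e j) (bdryOf_compat e)
    refine ⟨S, hS, fun V g hg => ?_⟩
    obtain ⟨w, hw⟩ := h g hg
    refine ⟨w, coskHom_ext _ _ fun j => ?_⟩
    have hη : ((SimplicialObject.coskAdj n).unit.app K).app (op ⦋n + 1⦌) ≫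
        ((SimplicialObject.Truncated.cosk n).obj ((SimplicialObject.truncation n).obj K)).map (SimplexCategory.δ j).op =
        K.δ j ≫ ((SimplicialObject.coskAdj n).unit.app K).app (op ⦋n⦌) :=
      (((SimplicialObject.coskAdj n).unit.app K).naturality (SimplexCategory.δ j).op).symm
    have htri : ((SimplicialObject.coskAdj n).unit.app K).app (op ⦋n⦌) ≫
        ((SimplicialObject.coskAdj n).counit.app _).app (op ⟨⦋n⦌, by simp⟩) = 𝟙 _ :=
      congr_app ((SimplicialObject.coskAdj n).left_triangle_components K) (op ⟨⦋n⦌, by simp⟩)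
    simp only [bdryOf, Category.assoc]
    rw [reassoc_of% hη]
    erw [htri]
    exact ((congrArg (w ≫ ·) (Category.comp_id (K.δ j))).trans (hw j))

end

/-- Filling boundaries given by morphisms. -/
def HomFill (J : GrothendieckTopology C) (K : SimplicialObject (FormalCoproduct.{u} C)) : Prop :=
  ∀ (n : ℕ) (U : C) (y : Fin (n + 2) → ((FormalCoproduct.incl C).obj U ⟶ K _⦋n⦌)), Compat y →
    ∃ S ∈ J U, ∀ ⦃V⦄ (g : V ⟶ U), S g → ∃ w : (FormalCoproduct.incl C).obj V ⟶ K _⦋n + 1⦌,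
      ∀ j, w ≫ K.δ j = (FormalCoproduct.incl C).map g ≫ y j

theorem homFill_of_locFill {J : GrothendieckTopology C} {K : SimplicialObject (FormalCoproduct.{u} C)}
    (hX : LocFill J (sps K)) : HomFill J K := fun n U y hy => by
  obtain ⟨S, hS, h⟩ := hX.fill n U (fun j => pt (y j)) fun m e i j hij => by
    subst e
    simp only [Fin.cast_refl, id_eq]
    have h' := hy m rfl i j hij
    simp only [Fin.cast_refl, id_eq] at h'
    exact (face_pt i _).trans ((congrArg pt h').trans (face_pt j _).symm)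
  refine ⟨S, hS, fun V g hg => ?_⟩
  obtain ⟨s, hs⟩ := h g hg
  obtain ⟨w, rfl⟩ := (ptEquiv V _).surjective s
  exact ⟨w, fun j => pt_eq_iff ((face_pt j w).symm.trans ((hs j).trans (pt_res (y j) g)))⟩

theorem isHypercoveringSite_of_fill (J : GrothendieckTopology C) (K : SimplicialObject (FormalCoproduct.{u} C))
    [∀ (n : ℕ) (F : (SimplexCategory.Truncated n)ᵒᵖ ⥤ Limits.FormalCoproduct.{u} C),
      (SimplexCategory.Truncated.inclusion n).op.HasRightKanExtension F]
    [HasTerminal (Cᵒᵖ ⥤ Type u)]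
    (h0 : ∀ U : C, ∃ S ∈ J U, ∀ ⦃V⦄ (g : V ⟶ U), S g → Nonempty ((FormalCoproduct.incl C).obj V ⟶ K _⦋0⦌))
    (hfill : HomFill J K) : _root_.Hyper.IsHypercoveringSite J K := by
  refine ⟨⟨fun {U} s => ?_⟩, ⟨fun {U} s => ?_⟩, fun n _ => isLocallySurjective_unit J (hfill n)⟩
  · obtain ⟨S, hS, h⟩ := h0 U
    refine J.superset_covering (fun V g hg => ⟨pt (h g hg).some, ?_⟩) hS
    apply yonedaEquiv.symm.injective
    exact terminal.hom_ext _ _
  · let Y := FormalCoproduct.yoneda.obj (K _⦋0⦌)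
    obtain ⟨y1, hy1⟩ := (ptEquiv U (K _⦋0⦌)).surjective ((prod.fst : Y ⨯ Y ⟶ Y).app (op U) s)
    obtain ⟨y0, hy0⟩ := (ptEquiv U (K _⦋0⦌)).surjective ((prod.snd : Y ⨯ Y ⟶ Y).app (op U) s)
    obtain ⟨S, hS, h⟩ := hfill 0 U ![y0, y1] (fun m e => by omega)
    refine J.superset_covering (fun V g hg => ?_) hS
    obtain ⟨w, hw⟩ := h g hg
    refine ⟨pt w, ?_⟩
    apply yonedaEquiv.symm.injective
    have key : ∀ (p : Y ⨯ Y ⟶ Y) (k : K _⦋0 + 1⦌ ⟶ K _⦋0⦌) (y : (FormalCoproduct.incl C).obj U ⟶ K _⦋0⦌),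
        prod.lift (FormalCoproduct.yoneda.map (K.δ (1 : Fin 2))) (FormalCoproduct.yoneda.map (K.δ (0 : Fin 2))) ≫ p =
          FormalCoproduct.yoneda.map k → pt y = p.app (op U) s → w ≫ k = (FormalCoproduct.incl C).map g ≫ y →
        yonedaEquiv.symm ((prod.lift (FormalCoproduct.yoneda.map (K.δ (1 : Fin 2))) (FormalCoproduct.yoneda.map (K.δ (0 : Fin 2)))).app (op V) (pt w)) ≫ p =
          yonedaEquiv.symm ((Y ⨯ Y).map g.op s) ≫ p := fun p k y hp hy hk => by
      apply yonedaEquiv.injective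
      rw [yonedaEquiv_comp, yonedaEquiv_comp, Equiv.apply_symm_apply, Equiv.apply_symm_apply]
      refine (congr($(congr_app hp (op V)) (pt w))).trans ((pt_comp w k).trans ((congrArg pt hk).trans ?_))
      refine (pt_res y g).symm.trans (Eq.trans ?_ (congr($(p.naturality g.op) s)).symm)
      exact congrArg _ hy
    exact Limits.prod.hom_ext (key _ _ y1 (prod.lift_fst _ _) hy1 (hw 1)) (key _ _ y0 (prod.lift_snd _ _) hy0 (hw 0))

theorem isHypercovering_of_fill (J : GrothendieckTopology C) (X : C)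
    (K : SimplicialObject (FormalCoproduct.{u} (Over X)))
    [∀ (n : ℕ) (F : (SimplexCategory.Truncated n)ᵒᵖ ⥤ Limits.FormalCoproduct.{u} (Over X)),
      (SimplexCategory.Truncated.inclusion n).op.HasRightKanExtension F]
    (h0 : Sieve.ofArrows (fun i => ((K _⦋0⦌).obj i).left) (fun i => ((K _⦋0⦌).obj i).hom) ∈ J X)
    (hfill : HomFill (J.over X) K) : _root_.Hyper.IsHypercovering J X K :=
  ⟨h0, fun n => isSRCovering_of_isLocallySurjective _ _ (isLocallySurjective_unit _ (hfill n))⟩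

theorem cover_of_vertex (J : GrothendieckTopology C) (X : C) (Y : FormalCoproduct.{u} (Over X))
    (h : ∃ S ∈ (J.over X) (Over.mk (𝟙 X)), ∀ ⦃V⦄ (g : V ⟶ Over.mk (𝟙 X)), S g →
      Nonempty ((FormalCoproduct.incl (Over X)).obj V ⟶ Y)) :
    Sieve.ofArrows (fun i => (Y.obj i).left) (fun i => (Y.obj i).hom) ∈ J X := by
  obtain ⟨S, hS, h⟩ := h
  refine J.superset_covering ?_ ((J.mem_over_iff S).1 hS)
  intro V g hg
  rw [Sieve.overEquiv_iff] at hg
  obtain ⟨w⟩ := h _ hg
  refine ⟨_, (w.φ PUnit.unit).left, _, ⟨w.f PUnit.unit⟩, ?_⟩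
  exact (Over.w (w.φ PUnit.unit)).trans (Category.comp_id g)

theorem isHypercovering_of_locFill (J : GrothendieckTopology C) (X : C)
    (K : SimplicialObject (FormalCoproduct.{u} (Over X)))
    [∀ (n : ℕ) (F : (SimplexCategory.Truncated n)ᵒᵖ ⥤ Limits.FormalCoproduct.{u} (Over X)),
      (SimplexCategory.Truncated.inclusion n).op.HasRightKanExtension F]
    (hX : LocFill (J.over X) (sps K)) : _root_.Hyper.IsHypercovering J X K := by
  refine isHypercovering_of_fill J X K (cover_of_vertex J X _ ?_) (homFill_of_locFill hX)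
  obtain ⟨S, hS, h⟩ := hX.vertex (Over.mk (𝟙 X))
  refine ⟨S, hS, fun V g hg => ?_⟩
  obtain ⟨s⟩ := h g hg
  exact ⟨(readHom (K _⦋0⦌)).app (op V) s⟩

end Groth.L10.Hyper
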