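import Groth.Agent.L10.Hyper.CechHom
import Mathlib.CategoryTheory.Limits.Shapes.IsTerminal
import Mathlib.CategoryTheory.Limits.Shapes.Terminal
import Mathlib.CategoryTheory.Comma.Over.Basic
import Groth.Agent.L10.CechSheaf

/-! Degree-zero Čech cohomology with respect to a hypercovering. -/

universe u

open CategoryTheory CategoryTheory.Limits Opposite Simplicial AlgebraicTopology

set_option backward.defeqAttrib.useBackward true
set_option backward.isDefEq.respectTransparency false
namespace Groth.L10.Hyper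

variable {C : Type u} [SmallCategory C] {J : GrothendieckTopology C} {K : SimplicialObject (FormalCoproduct.{u} C)}

/-- The constant presheaf on `ℤ`. -/
noncomputable abbrev constZ (C : Type u) [SmallCategory C] : Cᵒᵖ ⥤ AddCommGrpCat.{u} :=
  (Functor.const Cᵒᵖ).obj (AddCommGrpCat.free.obj PUnit.{u + 1})

theorem nonempty_h0 (hX : LocFill J (sps K)) (F : Sheaf J AddCommGrpCat.{u}) :
    Nonempty ((cx K F.obj).homology 0 ≅ AddCommGrpCat.of (constZ C ⟶ F.obj)) := by
  let adj := sheafificationAdjunction J AddCommGrpCat.{u}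
  let f : AddCommGrpCat.of (constZ C ⟶ F.obj) ⟶ (cx K F.obj).X 0 :=
    AddCommGrpCat.ofHom ((cochainEquiv K F.obj 0).toAddMonoidHom.comp
      (AddMonoidHom.mk' (fun χ : constZ C ⟶ F.obj => (augP (sps K) ≫ χ : (freeP (sps K)) _⦋0⦌ ⟶ F.obj)) fun a b => Preadditive.comp_add _ _ _ _ _ _))
  have hf : f ≫ (cx K F.obj).d 0 1 = 0 := AddCommGrpCat.hom_ext (AddMonoidHom.ext fun χ => by
    refine (cochainEquiv_d (augP (sps K) ≫ (χ : constZ C ⟶ F.obj) : (freeP (sps K)) _⦋0⦌ ⟶ F.obj)).symm.trans ?_
    refine (congrArg (cochainEquiv K F.obj 1) (?_ : _ = (0 : (freeP (sps K)) _⦋1⦌ ⟶ F.obj))).trans (map_zero _)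
    rw [← Category.assoc, dP_augP, zero_comp])
  have := aug_epi hX
  have := Cech.isIso_liftCycles_homologyπ₀ (cx K F.obj) f hf (fun χ χ' h => by
      have h' : augP (sps K) ≫ χ = augP (sps K) ≫ χ' := (cochainEquiv K F.obj 0).injective h
      refine (adj.homEquiv _ _).symm.injective ((cancel_epi ((presheafToSheaf J AddCommGrpCat.{u}).map (augP (sps K)))).1 ?_)
      rw [← adj.homEquiv_naturality_left_symm, ← adj.homEquiv_naturality_left_symm, h'])
    fun x hx => by
      obtain ⟨φ, rfl⟩ := (cochainEquiv K F.obj 0).surjective x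
      have hφ : dP (sps K) 0 ≫ φ = 0 := (cochainEquiv K F.obj 1).injective (by
        rw [cochainEquiv_d, hx, map_zero])
      let S := (ShortComplex.mk (dP (sps K) 0) (augP (sps K)) (dP_augP (sps K))).map (presheafToSheaf J AddCommGrpCat.{u})
      have hS : S.Exact := aug_exact hX
      have : Epi S.g := aug_epi hX
      let φ' : S.X₂ ⟶ F := (adj.homEquiv _ _).symm φ
      have hφ' : S.f ≫ φ' = 0 := by
        refine (adj.homEquiv_naturality_left_symm _ _).symm.trans ?_
        rw [hφ]
        exact (adj.homAddEquiv _ _).symm.map_zero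
      refine ⟨adj.homEquiv _ _ (hS.desc φ' hφ'), congrArg (cochainEquiv K F.obj 0) ?_⟩
      refine (adj.homEquiv_naturality_left _ _).symm.trans ?_
      rw [show (presheafToSheaf J AddCommGrpCat.{u}).map (augP (sps K)) ≫ hS.desc φ' hφ' = φ' from hS.g_desc φ' hφ']
      exact (adj.homEquiv _ _).apply_symm_apply φ
  exact ⟨(asIso ((cx K F.obj).liftCycles f 1 _ hf ≫ (cx K F.obj).homologyπ 0)).symm⟩

/-- The cone of a map out of the constant presheaf. -/
noncomputable abbrev coneOf {G : Cᵒᵖ ⥤ AddCommGrpCat.{u}} (χ : constZ C ⟶ G) : Limits.Cone G := ⟨AddCommGrpCat.free.obj PUnit.{u + 1}, χ⟩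

/-- Maps out of the constant presheaf on `ℤ` are global sections. -/
noncomputable def constHomEquiv (G : Cᵒᵖ ⥤ AddCommGrpCat.{u}) : (constZ C ⟶ G) ≃+ (limit G : AddCommGrpCat.{u}) where
  toFun χ := limit.lift G (coneOf χ) (FreeAbelianGroup.of PUnit.unit)
  invFun l :=
    { app := fun U => AddCommGrpCat.ofHom (FreeAbelianGroup.lift fun _ => limit.π G U l)
      naturality := fun U V g => AddCommGrpCat.hom_ext (FreeAbelianGroup.lift_ext _ _ fun _ => by
        refine (FreeAbelianGroup.lift_apply_of _ _).trans ?_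
        refine Eq.trans ?_ (congrArg (G.map g) (FreeAbelianGroup.lift_apply_of _ _)).symm
        exact congr($(limit.w G g) l).symm) }
  left_inv χ := NatTrans.ext (funext fun U => AddCommGrpCat.hom_ext (FreeAbelianGroup.lift_ext _ _ fun _ => by
    refine (FreeAbelianGroup.lift_apply_of _ _).trans ?_
    exact congr($(limit.lift_π (F := G) (coneOf χ) U) (FreeAbelianGroup.of PUnit.unit))))
  right_inv l := Concrete.limit_ext _ _ _ fun U => by
    refine (congr($(limit.lift_π (F := G) (coneOf _) U) (FreeAbelianGroup.of PUnit.unit))).trans ?_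
    exact FreeAbelianGroup.lift_apply_of _ _
  map_add' χ χ' := Concrete.limit_ext _ _ _ fun U => by
    rw [map_add]
    refine (congr($(limit.lift_π (F := G) (coneOf (χ + χ')) U) (FreeAbelianGroup.of PUnit.unit))).trans ?_
    exact congrArg₂ (· + ·) (congr($(limit.lift_π (F := G) (coneOf χ) U) (FreeAbelianGroup.of PUnit.unit))).symm
      (congr($(limit.lift_π (F := G) (coneOf χ') U) (FreeAbelianGroup.of PUnit.unit))).symm

theorem nonempty_h0_limit (hX : LocFill J (sps K)) (F : Sheaf J AddCommGrpCat.{u}) :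
    Nonempty ((cx K F.obj).homology 0 ≅ limit F.obj) :=
  ⟨(nonempty_h0 hX F).some ≪≫ (constHomEquiv F.obj).toAddCommGrpIso⟩

/-- Global sections of a presheaf on a slice. -/
noncomputable def limitOverIso {X : C} (G : (Over X)ᵒᵖ ⥤ AddCommGrpCat.{u}) : limit G ≅ G.obj (op (Over.mk (𝟙 X))) :=
  limit.isoLimitCone ⟨_, limitOfDiagramInitial (initialOpOfTerminal Over.mkIdTerminal) G⟩

end Groth.L10.Hyper
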