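import Mathlib.AlgebraicTopology.AlternatingFaceMapComplex
import Mathlib.Algebra.Category.Grp.Adjunctions
import Mathlib.CategoryTheory.Sites.Grothendieck
import Mathlib.GroupTheory.FreeAbelianGroup

/-! Local contractions of simplicial presheaves of sets whose boundaries are locally fillable. -/

universe u

open CategoryTheory Opposite Simplicial

set_option backward.defeqAttrib.useBackward true
set_option backward.isDefEq.respectTransparency false
namespace Groth.L10.Hyper

variable {C : Type u} [SmallCategory C] (J : GrothendieckTopology C) (X : SimplicialObject (Cᵒᵖ ⥤ Type u))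

/-- Sections of a term. -/
abbrev Sec (n : ℕ) (U : C) : Type u := (X _⦋n⦌).obj (op U)

/-- Face maps on sections. -/
abbrev face {n : ℕ} {U : C} (j : Fin (n + 2)) (x : Sec X (n + 1) U) : Sec X n U := (X.δ j).app (op U) x

/-- Degeneracy maps on sections. -/
abbrev degen {n : ℕ} {U : C} (j : Fin (n + 1)) (x : Sec X n U) : Sec X (n + 1) U := (X.σ j).app (op U) x

/-- Restriction. -/
abbrev res {n : ℕ} {U V : C} (g : V ⟶ U) (x : Sec X n U) : Sec X n V := (X _⦋n⦌).map g.op x

theorem res_comp {n : ℕ} {U V W : C} (g : V ⟶ U) (h : W ⟶ V) (x : Sec X n U) :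
    res X (h ≫ g) x = res X h (res X g x) := by
  simp [res]

theorem face_res {n : ℕ} {U V : C} (g : V ⟶ U) (j : Fin (n + 2)) (x : Sec X (n + 1) U) :
    face X j (res X g x) = res X g (face X j x) :=
  congr($((X.δ j).naturality g.op) x)

theorem face_face {n : ℕ} {U : C} {i j : Fin (n + 2)} (h : i ≤ j) (x : Sec X (n + 1 + 1) U) :
    face X i (face X j.succ x) = face X j (face X i.castSucc x) :=
  congr($(congr_app (X.δ_comp_δ h) (op U)) x)

/-- Vertices exist locally and compatible boundaries are locally fillable. -/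
structure LocFill : Prop where
  vertex : ∀ U : C, ∃ S ∈ J U, ∀ ⦃V⦄ (g : V ⟶ U), S g → Nonempty (Sec X 0 V)
  fill : ∀ (n : ℕ) (U : C) (y : Fin (n + 2) → Sec X n U),
    (∀ (m : ℕ) (e : n = m + 1) (i j : Fin (m + 2)), i ≤ j →
      face X i (e ▸ y (Fin.cast (by omega) j.succ) : Sec X (m + 1) U) =
        face X j (e ▸ y (Fin.cast (by omega) i.castSucc) : Sec X (m + 1) U)) →
    ∃ S ∈ J U, ∀ ⦃V⦄ (g : V ⟶ U), S g → ∃ w : Sec X (n + 1) V, ∀ j, face X j w = res X g (y j)

/-- `c` is a system of cones over the simplices in `F` after restriction along `g`. -/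
def Cone {U V : C} (g : V ⟶ U) : ∀ n : ℕ, Finset (Sec X n U) → (Sec X n U → Sec X (n + 1) V) → Prop
  | 0, F, c => ∃ v : Sec X 0 V, ∀ x ∈ F, face X 0 (c x) = res X g x ∧ face X 1 (c x) = v
  | n + 1, F, c => ∃ (F' : Finset (Sec X n U)) (c' : Sec X n U → Sec X (n + 1) V), Cone g n F' c' ∧
      ∀ x ∈ F, (∀ j, face X j x ∈ F') ∧ face X 0 (c x) = res X g x ∧ ∀ j, face X j.succ (c x) = c' (face X j x)

theorem Cone.comp {U V W : C} {g : V ⟶ U} (h : W ⟶ V) : ∀ (n : ℕ) {F : Finset (Sec X n U)} {c : Sec X n U → Sec X (n + 1) V},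
    Cone X g n F c → Cone X (h ≫ g) n F (fun x => res X h (c x))
  | 0, F, c, ⟨v, hv⟩ => ⟨res X h v, fun x hx => ⟨by rw [face_res, (hv x hx).1, res_comp], by rw [face_res, (hv x hx).2]⟩⟩
  | n + 1, F, c, ⟨F', c', hc', hc⟩ => ⟨F', fun y => res X h (c' y), Cone.comp h n hc', fun x hx =>
      ⟨(hc x hx).1, by rw [face_res, (hc x hx).2.1, res_comp], fun j => by rw [face_res, (hc x hx).2.2 j]⟩⟩

variable {J X}

theorem exists_fill_finset (hX : LocFill J X) {n : ℕ} {T : Type*} [DecidableEq T] (F : Finset T) (U : C)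
    (y : T → Fin (n + 2) → Sec X n U)
    (hy : ∀ t ∈ F, ∀ (m : ℕ) (e : n = m + 1) (i j : Fin (m + 2)), i ≤ j →
      face X i (e ▸ y t (Fin.cast (by omega) j.succ) : Sec X (m + 1) U) =
        face X j (e ▸ y t (Fin.cast (by omega) i.castSucc) : Sec X (m + 1) U)) :
    ∃ S ∈ J U, ∀ ⦃V⦄ (g : V ⟶ U), S g → ∀ t ∈ F, ∃ w : Sec X (n + 1) V, ∀ j, face X j w = res X g (y t j) := by
  induction F using Finset.induction with
  | empty => exact ⟨⊤, J.top_mem _, fun V g _ t ht => absurd ht (Finset.notMem_empty t)⟩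
  | insert a F ha ih =>
    obtain ⟨S, hS, h⟩ := ih fun t ht => hy t (Finset.mem_insert_of_mem ht)
    obtain ⟨S', hS', h'⟩ := hX.fill n U (y a) (hy a (Finset.mem_insert_self a F))
    refine ⟨S ⊓ S', J.intersection_covering hS hS', fun V g hg t ht => ?_⟩
    rcases Finset.mem_insert.1 ht with rfl | ht
    · exact h' g hg.2
    · exact h g hg.1 t ht

theorem exists_cone (hX : LocFill J X) : ∀ (n : ℕ) (U : C) (F : Finset (Sec X n U)),
    ∃ S ∈ J U, ∀ ⦃V⦄ (g : V ⟶ U), S g → ∃ c, Cone X g n F c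
  | 0, U, F => by
    classical
    obtain ⟨S, hS, hv⟩ := hX.vertex U
    choose R hR hw using fun (V : C) (g : V ⟶ U) (hg : S g) => exists_fill_finset hX (n := 0) F V
      (fun x => Fin.cons (res X g x) (fun _ => (hv g hg).some)) (fun x _ m e => absurd e (by omega))
    refine ⟨Sieve.bind S.arrows (fun V g hg => R V g hg), J.bind_covering hS (fun V g hg => hR V g hg), ?_⟩
    rintro W _ ⟨V, h, g, hg, hh, rfl⟩
    choose w hw' using hw V g hg h hh
    refine ⟨fun x => if hx : x ∈ F then w x hx else degen X 0 (res X (h ≫ g) x), res X h (hv g hg).some, fun x hx => ?_⟩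
    simp only [dif_pos hx]
    exact ⟨(hw' x hx 0).trans (by rw [Fin.cons_zero, res_comp]), (hw' x hx 1).trans (by rfl)⟩
  | n + 1, U, F => by
    classical
    let F' : Finset (Sec X n U) := F.biUnion fun x => Finset.univ.image fun j => face X j x
    have hF' : ∀ x ∈ F, ∀ j, face X j x ∈ F' := fun x hx j =>
      Finset.mem_biUnion.2 ⟨x, hx, Finset.mem_image.2 ⟨j, Finset.mem_univ j, rfl⟩⟩
    obtain ⟨S, hS, hc⟩ := exists_cone hX n U F'
    have hcompat : ∀ (V : C) (g : V ⟶ U) (hg : S g), ∀ x ∈ F, ∀ (m : ℕ) (e : n + 1 = m + 1) (i j : Fin (m + 2)), i ≤ j →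
        face X i (e ▸ (Fin.cons (res X g x) (fun k => (hc g hg).choose (face X k x)) : Fin (n + 3) → Sec X (n + 1) V)
            (Fin.cast (by omega) j.succ) : Sec X (m + 1) V) =
          face X j (e ▸ (Fin.cons (res X g x) (fun k => (hc g hg).choose (face X k x)) : Fin (n + 3) → Sec X (n + 1) V)
            (Fin.cast (by omega) i.castSucc) : Sec X (m + 1) V) := by
      intro V g hg x hx m e i j hij
      obtain rfl : n = m := by omega
      simp only [Fin.cast_refl, id_eq, Fin.cons_succ]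
      obtain ⟨c', hcon⟩ : ∃ c', (hc g hg).choose = c' ∧ Cone X g n F' c' := ⟨_, rfl, (hc g hg).choose_spec⟩
      rw [hcon.1]
      replace hcon := hcon.2
      induction i using Fin.cases with
      | zero =>
        simp only [Fin.castSucc_zero, Fin.cons_zero]
        cases n with
        | zero =>
          obtain ⟨v, hv⟩ := hcon
          rw [(hv _ (hF' x hx j)).1, face_res]
        | succ n =>
          obtain ⟨F'', c'', -, hv⟩ := hcon
          rw [(hv _ (hF' x hx j)).2.1, face_res]
      | succ i =>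
        simp only [Fin.castSucc_succ, Fin.cons_succ]
        induction j using Fin.cases with
        | zero => exact absurd hij (by simp)
        | succ j =>
          have hij' : i ≤ j := Fin.succ_le_succ_iff.1 hij
          cases n with
          | zero =>
            obtain ⟨v, hv⟩ := hcon
            obtain rfl : i = 0 := Fin.ext (by omega)
            obtain rfl : j = 0 := Fin.ext (by omega)
            exact ((hv _ (hF' x hx _)).2).trans ((hv _ (hF' x hx _)).2).symm
          | succ n =>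
            obtain ⟨F'', c'', -, hv⟩ := hcon
            rw [(hv _ (hF' x hx _)).2.2, (hv _ (hF' x hx _)).2.2, face_face X hij']
    choose R hR hw using fun (V : C) (g : V ⟶ U) (hg : S g) => exists_fill_finset hX (n := n + 1) F V
      (fun x => Fin.cons (res X g x) (fun k => (hc g hg).choose (face X k x))) (hcompat V g hg)
    refine ⟨Sieve.bind S.arrows (fun V g hg => R V g hg), J.bind_covering hS (fun V g hg => hR V g hg), ?_⟩
    rintro W _ ⟨V, h, g, hg, hh, rfl⟩
    choose w hw' using hw V g hg h hh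
    refine ⟨fun x => if hx : x ∈ F then w x hx else degen X 0 (res X (h ≫ g) x), F',
      fun y => res X h ((hc g hg).choose y), Cone.comp X h n (hc g hg).choose_spec, fun x hx => ⟨hF' x hx, ?_⟩⟩
    simp only [dif_pos hx]
    exact ⟨(hw' x hx 0).trans (by rw [Fin.cons_zero, res_comp]), fun j => (hw' x hx j.succ).trans (by rw [Fin.cons_succ])⟩

/-- Face map of free groups. -/
noncomputable def freeD (n : ℕ) (U : C) : FreeAbelianGroup (Sec X (n + 1) U) →+ FreeAbelianGroup (Sec X n U) :=
  ∑ j : Fin (n + 2), (-1 : ℤ) ^ (j : ℕ) • FreeAbelianGroup.map (face X j)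

theorem freeD_of (n : ℕ) (U : C) (x : Sec X (n + 1) U) :
    freeD n U (FreeAbelianGroup.of x) = ∑ j : Fin (n + 2), (-1 : ℤ) ^ (j : ℕ) • FreeAbelianGroup.of (face X j x) := by
  refine (map_sum (AddMonoidHom.eval (FreeAbelianGroup.of x)) _ _).trans ?_
  refine Finset.sum_congr rfl fun j _ => ?_
  rw [map_zsmul]
  exact congrArg ((-1 : ℤ) ^ (j : ℕ) • ·) (FreeAbelianGroup.map_of_apply (f := fun a => face X j a) x)

theorem exists_finset_determined {T : Type*} (z : FreeAbelianGroup T) :
    ∃ F : Finset T, ∀ (G : Type u) [AddCommGroup G] (φ ψ : FreeAbelianGroup T →+ G),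
      (∀ x ∈ F, φ (FreeAbelianGroup.of x) = ψ (FreeAbelianGroup.of x)) → φ z = ψ z := by
  classical
  induction z using FreeAbelianGroup.induction_on with
  | zero => exact ⟨∅, fun G _ φ ψ _ => by simp⟩
  | of x => exact ⟨{x}, fun G _ φ ψ h => h x (Finset.mem_singleton_self x)⟩
  | neg a ih =>
    obtain ⟨F, hF⟩ := ih
    exact ⟨F, fun G _ φ ψ h => by rw [map_neg, map_neg, hF G φ ψ h]⟩
  | add a b iha ihb =>
    obtain ⟨F, hF⟩ := iha
    obtain ⟨F', hF'⟩ := ihb
    exact ⟨F ∪ F', fun G _ φ ψ h => by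
      rw [map_add, map_add, hF G φ ψ (fun x hx => h x (Finset.mem_union_left _ hx)),
        hF' G φ ψ (fun x hx => h x (Finset.mem_union_right _ hx))]⟩

theorem exists_local_boundary (hX : LocFill J X) (n : ℕ) (U : C) (z : FreeAbelianGroup (Sec X (n + 1) U))
    (hz : freeD n U z = 0) :
    ∃ S ∈ J U, ∀ ⦃V⦄ (g : V ⟶ U), S g → ∃ w, freeD (n + 1) V w = FreeAbelianGroup.map (res X g) z := by
  obtain ⟨F, hF⟩ := exists_finset_determined z
  obtain ⟨S, hS, hc⟩ := exists_cone hX (n + 1) U F
  refine ⟨S, hS, fun V g hg => ?_⟩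
  obtain ⟨c, F', c', hc', hcx⟩ := hc g hg
  refine ⟨FreeAbelianGroup.map c z, ?_⟩
  have key := hF _ ((freeD (n + 1) V).comp (FreeAbelianGroup.map c) + (FreeAbelianGroup.map c').comp (freeD n U))
    (FreeAbelianGroup.map (res X g)) fun x hx => by
      simp only [AddMonoidHom.add_apply, AddMonoidHom.comp_apply, FreeAbelianGroup.map_of_apply, freeD_of, map_sum, map_zsmul]
      rw [Fin.sum_univ_succ, (hcx x hx).2.1]
      simp only [(hcx x hx).2.2, Fin.val_zero, pow_zero, one_smul, Fin.val_succ, pow_succ, mul_neg_one, neg_smul,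
        Finset.sum_neg_distrib]
      abel
  simpa [hz] using key

/-- The augmentation of the free group on vertices. -/
noncomputable def freeAug (U : C) : FreeAbelianGroup (Sec X 0 U) →+ FreeAbelianGroup PUnit.{u + 1} :=
  FreeAbelianGroup.map fun _ => PUnit.unit

theorem exists_local_boundary_zero (hX : LocFill J X) (U : C) (z : FreeAbelianGroup (Sec X 0 U))
    (hz : freeAug U z = 0) :
    ∃ S ∈ J U, ∀ ⦃V⦄ (g : V ⟶ U), S g → ∃ w, freeD 0 V w = FreeAbelianGroup.map (res X g) z := by
  obtain ⟨F, hF⟩ := exists_finset_determined z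
  obtain ⟨S, hS, hc⟩ := exists_cone hX 0 U F
  refine ⟨S, hS, fun V g hg => ?_⟩
  obtain ⟨c, v, hcx⟩ := hc g hg
  refine ⟨FreeAbelianGroup.map c z, ?_⟩
  have key := hF _ ((freeD 0 V).comp (FreeAbelianGroup.map c) + (FreeAbelianGroup.map fun _ : PUnit.{u + 1} => v).comp (freeAug U))
    (FreeAbelianGroup.map (res X g)) fun x hx => by
      simp only [AddMonoidHom.add_apply, AddMonoidHom.comp_apply, FreeAbelianGroup.map_of_apply, freeD_of, freeAug]
      rw [Fin.sum_univ_succ, Fin.sum_univ_one, (hcx x hx).1, show ((0 : Fin (0 + 1)).succ) = (1 : Fin (0 + 2)) from rfl,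
        (hcx x hx).2]
      simp
  simpa [hz] using key

theorem exists_local_aug (hX : LocFill J X) (U : C) (z : FreeAbelianGroup PUnit.{u + 1}) :
    ∃ S ∈ J U, ∀ ⦃V⦄ (g : V ⟶ U), S g → ∃ w : FreeAbelianGroup (Sec X 0 V), freeAug V w = z := by
  obtain ⟨S, hS, hv⟩ := hX.vertex U
  refine ⟨S, hS, fun V g hg => ⟨FreeAbelianGroup.map (fun _ => (hv g hg).some) z, ?_⟩⟩
  rw [freeAug]
  induction z using FreeAbelianGroup.induction_on with
  | zero => simp
  | of x => simp
  | neg a ih => rw [map_neg, map_neg, ih]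
  | add a b iha ihb => rw [map_add, map_add, iha, ihb]

end Groth.L10.Hyper
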