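import Groth.Agent.L10.Hyper.Acyclic
import Groth.Prelude.Def_Hyper2
import Mathlib.AlgebraicTopology.SimplicialObject.ChainHomotopy

/-! Pulling back Čech cochains along morphisms of simplicial formal coproducts. -/

universe u

open CategoryTheory CategoryTheory.Limits Opposite Simplicial AlgebraicTopology

set_option backward.defeqAttrib.useBackward true
set_option backward.isDefEq.respectTransparency false
namespace Groth.L10.Hyper

variable {C : Type u} [SmallCategory C] {X : C}
  {K L M : SimplicialObject (FormalCoproduct.{u} (Over X))}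

/-- A presheaf restricted to a slice. -/
abbrev rest (X : C) (P : Cᵒᵖ ⥤ AddCommGrpCat.{u}) : (Over X)ᵒᵖ ⥤ AddCommGrpCat.{u} := (Over.forget X).op ⋙ P

/-- Pull-back of cochains. -/
noncomputable def pull (f : L ⟶ K) (P : Cᵒᵖ ⥤ AddCommGrpCat.{u}) (n : ℕ) :
    ((cx K (rest X P)).X n : Type u) →+ ((cx L (rest X P)).X n : Type u) :=
  ((_root_.Hyper.cechMap X f P).f n).hom

theorem co_pull (f : L ⟶ K) (P : Cᵒᵖ ⥤ AddCommGrpCat.{u}) {n : ℕ} (i : (L _⦋n⦌).I) (x : (cx K (rest X P)).X n) :
    co i (pull f P n x) =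
      (rest X P).map ((f.app (op ⦋n⦌)).φ i).op (co ((f.app (op ⦋n⦌)).f i) x) := by
  change (((_root_.Hyper.cechMap X f P).f n) ≫ Pi.π (fun i : (L _⦋n⦌).I => (rest X P).obj (op ((L _⦋n⦌).obj i))) i) x = _
  simp [_root_.Hyper.cechMap, AlgebraicTopology.alternatingCofaceMapComplex,
    AlgebraicTopology.AlternatingCofaceMapComplex.map]
  rfl

theorem pull_d (f : L ⟶ K) (P : Cᵒᵖ ⥤ AddCommGrpCat.{u}) (n m : ℕ) (x : (cx K (rest X P)).X n) :
    pull f P m ((cx K (rest X P)).d n m x) = (cx L (rest X P)).d n m (pull f P n x) :=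
  congr($((_root_.Hyper.cechMap X f P).comm n m) x).symm

theorem pull_pull (g : M ⟶ L) (f : L ⟶ K) (P : Cᵒᵖ ⥤ AddCommGrpCat.{u}) (n : ℕ) (x : (cx K (rest X P)).X n) :
    pull g P n (pull f P n x) = pull (g ≫ f) P n x := co_ext fun i => by
  rw [co_pull, co_pull, co_pull]
  change ((rest X P).map _ ≫ (rest X P).map _) _ = _
  rw [← Functor.map_comp, ← op_comp]
  rfl

theorem pull_map (f : L ⟶ K) {P Q : Cᵒᵖ ⥤ AddCommGrpCat.{u}} (t : P ⟶ Q) (n : ℕ) (x : (cx K (rest X P)).X n) :
    pull f Q n ((cxMap K (Functor.whiskerLeft (Over.forget X).op t)).f n x) =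
      (cxMap L (Functor.whiskerLeft (Over.forget X).op t)).f n (pull f P n x) := co_ext fun i => by
  rw [co_pull, co_map, co_map, co_pull]
  exact congr($((Functor.whiskerLeft (Over.forget X).op t).naturality ((f.app (op ⦋n⦌)).φ i).op) (co ((f.app (op ⦋n⦌)).f i) x)).symm

/-- The map of free presheaves. -/
noncomputable abbrev freeMap (f : L ⟶ K) : freeP (sps L) ⟶ freeP (sps K) :=
  Functor.whiskerRight (Functor.whiskerRight f FormalCoproduct.yoneda) _

theorem pull_cochainEquiv (f : L ⟶ K) (P : Cᵒᵖ ⥤ AddCommGrpCat.{u}) (n : ℕ)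
    (φ : (freeP (sps K)) _⦋n⦌ ⟶ rest X P) :
    pull f P n (cochainEquiv K (rest X P) n φ) = cochainEquiv L (rest X P) n ((freeMap f).app (op ⦋n⦌) ≫ φ) :=
  co_ext fun i => by
    rw [co_pull, co_cochainEquiv, co_cochainEquiv]
    change _ = φ.app _ (FreeAbelianGroup.map _ (FreeAbelianGroup.of (gen i)))
    rw [FreeAbelianGroup.map_of_apply]
    refine (congr($(φ.naturality ((f.app (op ⦋n⦌)).φ i).op) (FreeAbelianGroup.of (gen ((f.app (op ⦋n⦌)).f i))))).symm.trans ?_
    refine congrArg (φ.app _) ((FreeAbelianGroup.map_of_apply _).trans (congrArg FreeAbelianGroup.of ?_))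
    refine Eq.trans ?_ (pt_comp _ _).symm
    rw [pt_eq_map_gen]
    change _ = (FormalCoproduct.yoneda.obj (K _⦋n⦌)).map (𝟙 _ ≫ (f.app (op ⦋n⦌)).φ i).op (gen ((f.app (op ⦋n⦌)).f i))
    rw [Category.id_comp]
    rfl

theorem cechHMap_π (f : L ⟶ K) (P : Cᵒᵖ ⥤ AddCommGrpCat.{u}) (n : ℕ) (z : (cx K (rest X P)).cycles n) :
    _root_.Hyper.cechHMap X f P n ((cx K (rest X P)).homologyπ n z) =
      (cx L (rest X P)).homologyπ n (HomologicalComplex.cyclesMap (_root_.Hyper.cechMap X f P) n z) :=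
  congr($(HomologicalComplex.homologyπ_naturality (_root_.Hyper.cechMap X f P) n) z)

theorem iCycles_cyclesMap (f : L ⟶ K) (P : Cᵒᵖ ⥤ AddCommGrpCat.{u}) (n : ℕ) (z : (cx K (rest X P)).cycles n) :
    (cx L (rest X P)).iCycles n (HomologicalComplex.cyclesMap (_root_.Hyper.cechMap X f P) n z) =
      pull f P n ((cx K (rest X P)).iCycles n z) :=
  congr($(HomologicalComplex.cyclesMap_i (_root_.Hyper.cechMap X f P) n) z)

theorem cechHMap_eq_of_homotopy (a b : L ⟶ K) (h : SimplicialObject.Homotopy a b) (P : Cᵒᵖ ⥤ AddCommGrpCat.{u})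
    (p : ℕ) : _root_.Hyper.cechHMap X a P p = _root_.Hyper.cechHMap X b P p := by
  let F := FormalCoproduct.yoneda ⋙ (Functor.whiskeringRight (Over X)ᵒᵖ (Type u) AddCommGrpCat.{u}).obj AddCommGrpCat.free.{u}
  let H := (h.whiskerRight F).toChainHomotopy
  refine AddMonoidHom.ext fun ξ => ?_
  obtain ⟨z, rfl⟩ := (AddCommGrpCat.epi_iff_surjective ((cx K (rest X P)).homologyπ p)).1 inferInstance ξ
  rw [cechHMap_π, cechHMap_π]
  obtain ⟨φ, hφ⟩ := (cochainEquiv K (rest X P) p).surjective ((cx K (rest X P)).iCycles p z)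
  have hz : dP (sps K) p ≫ φ = 0 := (cochainEquiv K (rest X P) (p + 1)).injective (by
    rw [cochainEquiv_d, hφ, map_zero]
    exact congr($((cx K (rest X P)).iCycles_d p (p + 1)) z))
  have hi : Function.Injective ((cx L (rest X P)).iCycles p) := (AddCommGrpCat.mono_iff_injective _).1 inferInstance
  have hc := congrArg (· ≫ φ) (H.comm p)
  have hdK : ((alternatingFaceMapComplex _).obj (((SimplicialObject.whiskering _ _).obj F).obj K)).d (p + 1) p ≫ φ = 0 :=
    (congrArg (· ≫ φ) (AlternatingFaceMapComplex.obj_d_eq _ p)).trans hz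
  rcases p with _ | q
  · refine congrArg _ (hi ?_)
    rw [iCycles_cyclesMap, iCycles_cyclesMap, ← hφ, pull_cochainEquiv, pull_cochainEquiv]
    refine congrArg _ (hc.trans ?_)
    rw [dNext_eq_zero _ _ (by simp), prevD_eq (j' := 1) (w := by simp), zero_add, Preadditive.add_comp, Category.assoc]
    erw [hdK]
    simp
    rfl
  · have hd : ∀ (A : SimplicialObject ((Over X)ᵒᵖ ⥤ AddCommGrpCat.{u})) (m : ℕ),
        ((alternatingFaceMapComplex _).obj A).d (m + 1) m = ∑ i : Fin (m + 2), (-1 : ℤ) ^ (i : ℕ) • A.δ i := fun A m =>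
      AlternatingFaceMapComplex.obj_d_eq _ _
    let ψ : (freeP (sps L)) _⦋q⦌ ⟶ rest X P := H.hom q (q + 1) ≫ φ
    have key : pull a P (q + 1) (cochainEquiv K (rest X P) (q + 1) φ) =
        (cx L (rest X P)).d q (q + 1) (cochainEquiv L (rest X P) q ψ) +
          pull b P (q + 1) (cochainEquiv K (rest X P) (q + 1) φ) := by
      rw [pull_cochainEquiv, pull_cochainEquiv, ← cochainEquiv_d, ← map_add]
      refine congrArg _ (hc.trans ?_)
      rw [dNext_eq (i' := q) (w := by simp), prevD_eq (j' := q + 2) (w := by simp), Preadditive.add_comp,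
        Preadditive.add_comp, Category.assoc, Category.assoc]
      erw [hdK, hd]
      rw [comp_zero, add_zero]
      rfl
    refine sub_eq_zero.1 ?_
    rw [← map_sub]
    have hz' : HomologicalComplex.cyclesMap (_root_.Hyper.cechMap X a P) (q + 1) z -
        HomologicalComplex.cyclesMap (_root_.Hyper.cechMap X b P) (q + 1) z =
        (cx L (rest X P)).toCycles q (q + 1) (cochainEquiv L (rest X P) q ψ) := hi (by
      rw [map_sub, iCycles_cyclesMap, iCycles_cyclesMap, ← hφ, key, add_sub_cancel_right]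
      exact congr($((cx L (rest X P)).toCycles_i q (q + 1)) _).symm)
    rw [hz']
    exact congr($((cx L (rest X P)).toCycles_comp_homologyπ q (q + 1)) _)

end Groth.L10.Hyper
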