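import Groth.Agent.L10.Hyper.Converse
import Mathlib.CategoryTheory.Limits.Shapes.Pullback.IsPullback.Basic
import Mathlib.CategoryTheory.Limits.Constructions.Over.Basic

/-! Properties of coverings of formal coproducts. -/

universe u

open CategoryTheory CategoryTheory.Limits Opposite Simplicial

set_option backward.defeqAttrib.useBackward true
set_option backward.isDefEq.respectTransparency false
namespace Groth.L10.Hyper

variable {C : Type u} [SmallCategory C] {J : GrothendieckTopology C}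

theorem isSRCovering_comp {K L M : FormalCoproduct.{u} C} (f : K ⟶ L) (g : L ⟶ M)
    (hf : _root_.Hyper.IsSRCovering J f) (hg : _root_.Hyper.IsSRCovering J g) : _root_.Hyper.IsSRCovering J (f ≫ g) := by
  rw [isSRCovering_iff] at hf hg ⊢
  rw [Functor.map_comp]
  exact Presheaf.isLocallySurjective_comp J _ _

theorem isSRCovering_fst {K L L' P : FormalCoproduct.{u} C} {p : P ⟶ L'} {q : P ⟶ K} {g : L' ⟶ L} {f : K ⟶ L}
    (h : IsPullback p q g f) (hf : _root_.Hyper.IsSRCovering J f) : _root_.Hyper.IsSRCovering J p := by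
  rw [isSRCovering_iff] at hf ⊢
  refine isLocallySurjective_of_pt J p fun U e => ?_
  obtain ⟨S, hS, hw⟩ := exists_lift_of_isLocallySurjective J f hf U (e ≫ g)
  refine ⟨S, hS, fun V a ha => ?_⟩
  obtain ⟨w, hw'⟩ := hw a ha
  exact ⟨h.lift ((FormalCoproduct.incl C).map a ≫ e) w ((Category.assoc _ _ _).trans hw'.symm), h.lift_fst _ _ _⟩

theorem vertex_cover (X : C) (K : SimplicialObject (FormalCoproduct.{u} (Over X)))
    (h : LocFill (J.over X) (sps K)) (n : ℕ) :
    Sieve.ofArrows (fun i => ((K _⦋n⦌).obj i).left) (fun i => ((K _⦋n⦌).obj i).hom) ∈ J X := by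
  refine cover_of_vertex J X _ ?_
  obtain ⟨S, hS, h'⟩ := h.vertex (Over.mk (𝟙 X))
  refine ⟨S, hS, fun V g hg => ?_⟩
  obtain ⟨s⟩ := h' g hg
  exact ⟨(readHom (K _⦋0⦌)).app (op V) s ≫ K.map (SimplexCategory.const ⦋n⦌ ⦋0⦌ 0).op⟩

theorem isLocallySurjective_δ (K : SimplicialObject (FormalCoproduct.{u} C)) (n : ℕ) (i : Fin (n + 2)) :
    Presheaf.IsLocallySurjective J (FormalCoproduct.yoneda.map (K.δ i)) := by
  have h : ∃ j : Fin (n + 1), K.σ j ≫ K.δ i = 𝟙 _ := by
    refine Fin.lastCases ?_ (fun k => ?_) i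
    · exact ⟨Fin.last n, by simpa using K.δ_comp_σ_succ (i := Fin.last n)⟩
    · exact ⟨k, K.δ_comp_σ_self⟩
  obtain ⟨j, hj⟩ := h
  exact isLocallySurjective_of_pt J _ fun U e => ⟨⊤, J.top_mem _, fun V g _ =>
    ⟨(FormalCoproduct.incl C).map g ≫ e ≫ K.σ j, by rw [Category.assoc, Category.assoc, hj, Category.comp_id]⟩⟩

theorem isHypercovering_fiberProduct [HasPullbacks C] (X : C)
    [∀ (n : ℕ) (F : (SimplexCategory.Truncated n)ᵒᵖ ⥤ Limits.FormalCoproduct.{u} (Over X)),
      (SimplexCategory.Truncated.inclusion n).op.HasRightKanExtension F]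
    {K L M P : SimplicialObject (FormalCoproduct.{u} (Over X))} (a : K ⟶ L) (b : M ⟶ L)
    (p1 : P ⟶ K) (p2 : P ⟶ M) (hP : IsPullback p1 p2 a b)
    (hK : _root_.Hyper.IsHypercovering J X K)
    (h0 : _root_.Hyper.IsSRCovering (J.over X) (b.app (op ⦋0⦌)))
    (hγ : ∀ (n : ℕ) (Q : FormalCoproduct.{u} (Over X))
      (q1 : Q ⟶ L.obj (op (SimplexCategory.mk (n + 1))))
      (q2 : Q ⟶ ((SimplicialObject.truncation n ⋙ SimplicialObject.Truncated.cosk n).obj M).obj
        (op (SimplexCategory.mk (n + 1))))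
      (γ : M.obj (op (SimplexCategory.mk (n + 1))) ⟶ Q),
      IsPullback q1 q2 (((SimplicialObject.coskAdj n).unit.app L).app (op (SimplexCategory.mk (n + 1))))
        (((SimplicialObject.truncation n ⋙ SimplicialObject.Truncated.cosk n).map b).app
          (op (SimplexCategory.mk (n + 1)))) →
      γ ≫ q1 = b.app (op (SimplexCategory.mk (n + 1))) →
      γ ≫ q2 = ((SimplicialObject.coskAdj n).unit.app M).app (op (SimplexCategory.mk (n + 1))) →
      _root_.Hyper.IsSRCovering (J.over X) γ) :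
    _root_.Hyper.IsHypercovering J X P := by
  have hP' : ∀ Δ, IsPullback (p1.app Δ) (p2.app Δ) (a.app Δ) (b.app Δ) := fun Δ =>
    hP.map ((evaluation _ _).obj Δ)
  refine ⟨cover_of_vertex J X _ ?_, fun n => isSRCovering_of_isLocallySurjective _ _ ?_⟩
  · obtain ⟨S, hS, hv⟩ := (locFill_of_isHypercovering J X K hK).vertex (Over.mk (𝟙 X))
    rw [isSRCovering_iff] at h0
    choose v hv' using fun (V : Over X) (g : V ⟶ Over.mk (𝟙 X)) (hg : S g) =>
      (ptEquiv V (K _⦋0⦌)).surjective (hv g hg).some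
    choose T hT ht using fun (V : Over X) (g : V ⟶ Over.mk (𝟙 X)) (hg : S g) =>
      exists_lift_of_isLocallySurjective (J.over X) _ h0 V (v V g hg ≫ a.app (op ⦋0⦌))
    refine ⟨Sieve.bind S.arrows fun V g hg => T V g hg, (J.over X).bind_covering hS (fun V g hg => hT V g hg), ?_⟩
    rintro W _ ⟨V, h, g, hg, hh, rfl⟩
    obtain ⟨m, hm⟩ := ht V g hg h hh
    exact ⟨(hP' (op ⦋0⦌)).lift ((FormalCoproduct.incl _).map h ≫ v V g hg) m
      ((Category.assoc _ _ _).trans hm.symm)⟩
  · refine isLocallySurjective_of_pt _ _ fun U e => ?_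
    let G := SimplicialObject.truncation n ⋙ SimplicialObject.Truncated.cosk (C := FormalCoproduct.{u} (Over X)) n
    have hG : IsPullback ((G.map p1).app (op ⦋n + 1⦌)) ((G.map p2).app (op ⦋n + 1⦌))
        ((G.map a).app (op ⦋n + 1⦌)) ((G.map b).app (op ⦋n + 1⦌)) := by
      have : (SimplicialObject.Truncated.cosk (C := FormalCoproduct.{u} (Over X)) n).IsRightAdjoint :=
        (SimplicialObject.coskAdj n).isRightAdjoint
      have h1 : IsPullback ((SimplicialObject.truncation n).map p1) ((SimplicialObject.truncation n).map p2)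
          ((SimplicialObject.truncation n).map a) ((SimplicialObject.truncation n).map b) :=
        IsPullback.of_forall_isPullback_app fun Δ => hP' _
      exact (h1.map (SimplicialObject.Truncated.cosk n)).map ((evaluation _ _).obj (op ⦋n + 1⦌))
    have hnat : ∀ {A B : SimplicialObject (FormalCoproduct.{u} (Over X))} (t : A ⟶ B),
        t.app (op ⦋n + 1⦌) ≫ ((SimplicialObject.coskAdj n).unit.app B).app (op ⦋n + 1⦌) =
          ((SimplicialObject.coskAdj n).unit.app A).app (op ⦋n + 1⦌) ≫ (G.map t).app (op ⦋n + 1⦌) := fun t =>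
      congr_app ((SimplicialObject.coskAdj n).unit.naturality t) (op ⦋n + 1⦌)
    obtain ⟨S, hS, hw⟩ := exists_lift_of_isLocallySurjective (J.over X) _
      (isLocallySurjective_of_isSRCovering _ _ (hK.2 n)) U (e ≫ (G.map p1).app (op ⦋n + 1⦌))
    let ηL := ((SimplicialObject.coskAdj n).unit.app L).app (op ⦋n + 1⦌)
    let bc := (G.map b).app (op ⦋n + 1⦌)
    have hQ : IsPullback (pullback.fst ηL bc) (pullback.snd ηL bc) ηL bc := IsPullback.of_hasPullback _ _
    let γ := hQ.lift (b.app (op ⦋n + 1⦌)) (((SimplicialObject.coskAdj n).unit.app M).app (op ⦋n + 1⦌)) (hnat b)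
    have hγ' := isLocallySurjective_of_isSRCovering _ _ (hγ n _ _ _ γ hQ (hQ.lift_fst _ _ _) (hQ.lift_snd _ _ _))
    choose w hw' using fun (V : Over X) (g : V ⟶ U) (hg : S g) => hw g hg
    let pQ := fun (V : Over X) (g : V ⟶ U) (hg : S g) =>
      hQ.lift (w V g hg ≫ a.app (op ⦋n + 1⦌)) ((FormalCoproduct.incl _).map g ≫ e ≫ (G.map p2).app (op ⦋n + 1⦌)) (by
        simp only [Category.assoc]
        rw [hnat a, reassoc_of% (hw' V g hg), hG.w])
    choose T hT ht using fun (V : Over X) (g : V ⟶ U) (hg : S g) =>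
      exists_lift_of_isLocallySurjective (J.over X) γ hγ' V (pQ V g hg)
    refine ⟨Sieve.bind S.arrows fun V g hg => T V g hg, (J.over X).bind_covering hS (fun V g hg => hT V g hg), ?_⟩
    rintro W _ ⟨V, h, g, hg, hh, rfl⟩
    obtain ⟨m, hm⟩ := ht V g hg h hh
    have h1 := hm =≫ pullback.fst ηL bc
    have h2 := hm =≫ pullback.snd ηL bc
    simp only [Category.assoc, γ, pQ, hQ.lift_fst, hQ.lift_snd] at h1 h2
    refine ⟨(hP' (op ⦋n + 1⦌)).lift ((FormalCoproduct.incl _).map h ≫ w V g hg) m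
      ((Category.assoc _ _ _).trans h1.symm), hG.hom_ext ?_ ?_⟩
    · simp only [Category.assoc, Functor.map_comp]
      rw [← hnat p1, (hP' (op ⦋n + 1⦌)).lift_fst_assoc, Category.assoc, hw' V g hg]
    · simp only [Category.assoc, Functor.map_comp]
      rw [← hnat p2, (hP' (op ⦋n + 1⦌)).lift_snd_assoc, h2]

end Groth.L10.Hyper
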