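import Groth.Agent.L10.Hyper.Acyclic
import Groth.Agent.L10.RDerComplex
import Groth.Agent.L10.SiteRightDerived
import Groth.Agent.L17.GrothSS
import Groth.Agent.L17.HomDerived
import Groth.Agent.L17.SiteSections
import Groth.Prelude.Def_SpSeq
import Groth.Prelude.Def_Hyper
import Mathlib.Algebra.Homology.GrothendieckAbelian
import Mathlib.Algebra.Category.Grp.EnoughInjectives

/-! The spectral sequence of a hypercovering. -/

universe u

open CategoryTheory CategoryTheory.Limits Opposite Simplicial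

set_option backward.defeqAttrib.useBackward true
set_option backward.isDefEq.respectTransparency false
namespace Groth.L10.Hyper

/-- An injective complex of abelian groups is exact in positive degrees. -/
theorem isZero_homology_injective (I : CochainComplex AddCommGrpCat.{u} ℕ) [Injective I] (p : ℕ) :
    IsZero (I.homology (p + 1)) := by
  rw [← HomologicalComplex.exactAt_iff_isZero_homology,
    HomologicalComplex.exactAt_iff' _ p (p + 1) (p + 1 + 1) (by simp) (by simp), ShortComplex.ab_exact_iff]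
  intro x (hx : I.d (p + 1) (p + 1 + 1) x = 0)
  let Y : CochainComplex AddCommGrpCat.{u} ℕ := CochainComplex.of (fun n => AddCommGrpCat.of (I.X n × I.X (n + 1)))
    (fun n => AddCommGrpCat.ofHom (AddMonoidHom.mk' (fun a => (a.2, 0)) fun a b => by simp))
    (fun n => AddCommGrpCat.hom_ext (AddMonoidHom.ext fun a => Prod.ext rfl rfl))
  have hYd : ∀ n (a : I.X n × I.X (n + 1)), Y.d n (n + 1) a = (a.2, 0) := fun n a =>
    congr($(@CochainComplex.of_d AddCommGrpCat.{u} _ _ ℕ _ _ _ (fun n => AddCommGrpCat.of (I.X n × I.X (n + 1))) (fun n => AddCommGrpCat.ofHom (AddMonoidHom.mk' (fun a => (a.2, 0)) fun a b => by simp)) n) a)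
  let ι : I ⟶ Y :=
    { f := fun n => AddCommGrpCat.ofHom (AddMonoidHom.mk' (fun a => (a, I.d n (n + 1) a)) fun a b => by simp)
      comm' := fun i j (hij : i + 1 = j) => by
        subst hij
        refine AddCommGrpCat.hom_ext (AddMonoidHom.ext fun a => ?_)
        refine (hYd i (a, I.d i (i + 1) a)).trans (Prod.ext rfl ?_)
        exact (congr($(I.d_comp_d i (i + 1) (i + 1 + 1)) a)).symm }
  have : Mono ι := by
    have : ∀ n, Mono (ι.f n) := fun n => (AddCommGrpCat.mono_iff_injective _).2 fun a b h => congrArg Prod.fst h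
    exact HomologicalComplex.mono_of_mono_f ι this
  let r : Y ⟶ I := Injective.factorThru (𝟙 I) ι
  have hr : ι ≫ r = 𝟙 I := Injective.comp_factorThru _ _
  let b : I.X p × I.X (p + 1) := (0, x)
  refine ⟨r.f p b, ?_⟩
  refine (congr($(r.comm p (p + 1)) b)).trans ?_
  refine (congrArg (r.f (p + 1)) ((hYd p b).trans (?_ : (x, (0 : I.X (p + 1 + 1))) = ι.f (p + 1) x))).trans ?_
  · exact Prod.ext rfl hx.symm
  · exact congr($(HomologicalComplex.congr_hom hr (p + 1)) x)

variable {C : Type u} [SmallCategory C] (J : GrothendieckTopology C) (K : SimplicialObject (FormalCoproduct.{u} C))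

/-- The Čech complex functor on presheaves. -/
noncomputable abbrev cxF : (Cᵒᵖ ⥤ AddCommGrpCat.{u}) ⥤ CochainComplex AddCommGrpCat.{u} ℕ :=
  FormalCoproduct.cochainComplexFunctor K

instance additive_cxF : (cxF K).Additive where
  map_add {P Q f g} := by
    ext n : 1
    refine AddCommGrpCat.hom_ext (AddMonoidHom.ext fun (x : (cx K P).X n) => ?_)
    refine co_ext fun i => ?_
    refine (co_map (f + g) i x).trans ?_
    change (f + g).app _ _ = co i ((cxMap K f).f n x + (cxMap K g).f n x)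
    rw [map_add, co_map, co_map]
    rfl

theorem cxF_shortExact (T : ShortComplex (Cᵒᵖ ⥤ AddCommGrpCat.{u})) (hT : T.ShortExact) :
    (T.map (cxF K)).ShortExact := by
  have hV : ∀ V : Cᵒᵖ, (T.map ((evaluation _ _).obj V)).ShortExact := fun V => hT.map_of_exact _
  refine HomologicalComplex.shortExact_of_degreewise_shortExact _ fun n => ?_
  refine { exact := ?_, mono_f := ?_, epi_g := ?_ }
  · rw [ShortComplex.ab_exact_iff]
    intro (x : (cx K T.X₂).X n) (hx : (cxMap K T.g).f n x = 0)
    choose y hy using fun i : (K _⦋n⦌).I => ((ShortComplex.ab_exact_iff _).1 (hV _).exact) (co i x)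
      (show T.g.app _ (co i x) = 0 by rw [← co_map, hx, map_zero])
    exact ⟨mk y, co_ext fun i => (co_map T.f i (mk y)).trans (by rw [co_mk]; exact hy i)⟩
  · refine (AddCommGrpCat.mono_iff_injective _).2 fun (x : (cx K T.X₁).X n) (y : (cx K T.X₁).X n) h => co_ext fun i => ?_
    refine (hV _).ab_injective_f ?_
    change T.f.app _ (co i x) = T.f.app _ (co i y)
    rw [← co_map, ← co_map]
    exact congrArg (co i) h
  · refine (AddCommGrpCat.epi_iff_surjective _).2 fun (x : (cx K T.X₃).X n) => ?_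
    choose y hy using fun i : (K _⦋n⦌).I => (hV _).ab_surjective_g (co i x)
    exact ⟨mk y, co_ext fun i => (co_map T.g i (mk y)).trans (by rw [co_mk]; exact hy i)⟩

/-- The augmentation of the Čech complex by global sections. -/
noncomputable def augC (P : Cᵒᵖ ⥤ AddCommGrpCat.{u}) : AddCommGrpCat.of (constZ C ⟶ P) ⟶ (cx K P).X 0 :=
  AddCommGrpCat.ofHom ((cochainEquiv K P 0).toAddMonoidHom.comp
    (AddMonoidHom.mk' (fun χ : constZ C ⟶ P => (augP (sps K) ≫ χ : (freeP (sps K)) _⦋0⦌ ⟶ P))
      fun a b => Preadditive.comp_add _ _ _ _ _ _))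

theorem augC_d (P : Cᵒᵖ ⥤ AddCommGrpCat.{u}) : augC K P ≫ (cx K P).d 0 1 = 0 :=
  AddCommGrpCat.hom_ext (AddMonoidHom.ext fun χ => by
    refine (cochainEquiv_d (augP (sps K) ≫ (χ : constZ C ⟶ P) : (freeP (sps K)) _⦋0⦌ ⟶ P)).symm.trans ?_
    refine (congrArg (cochainEquiv K P 1) (?_ : _ = (0 : (freeP (sps K)) _⦋1⦌ ⟶ P))).trans (map_zero _)
    rw [← Category.assoc, dP_augP, zero_comp])

/-- The augmentation to zeroth Čech cohomology. -/
noncomputable def augH (P : Cᵒᵖ ⥤ AddCommGrpCat.{u}) : AddCommGrpCat.of (constZ C ⟶ P) ⟶ (cx K P).homology 0 :=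
  (cx K P).liftCycles (augC K P) 1 (by simp) (augC_d K P) ≫ (cx K P).homologyπ 0

theorem augH_naturality {P Q : Cᵒᵖ ⥤ AddCommGrpCat.{u}} (g : P ⟶ Q) :
    AddCommGrpCat.ofHom (AddMonoidHom.mk' (fun χ : constZ C ⟶ P => χ ≫ g) fun a b => Preadditive.add_comp _ _ _ _ _ _) ≫ augH K Q =
      augH K P ≫ HomologicalComplex.homologyMap (cxMap K g) 0 := by
  rw [augH, augH, Category.assoc, HomologicalComplex.homologyπ_naturality, ← Category.assoc, ← Category.assoc]
  congr 1
  rw [← cancel_mono ((cx K Q).iCycles 0), Category.assoc, Category.assoc, HomologicalComplex.liftCycles_i,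
    HomologicalComplex.cyclesMap_i, HomologicalComplex.liftCycles_i_assoc]
  refine AddCommGrpCat.hom_ext (AddMonoidHom.ext fun χ => ?_)
  exact (congrArg (cochainEquiv K Q 0) (Category.assoc (augP (sps K)) (χ : constZ C ⟶ P) g).symm).trans
    (cochainEquiv_comp g _).symm

variable {J K}

theorem isIso_augH (hX : LocFill J (sps K)) (F : Sheaf J AddCommGrpCat.{u}) : IsIso (augH K F.obj) :=
  Cech.isIso_liftCycles_homologyπ₀ (cx K F.obj) (augC K F.obj) (augC_d K F.obj) (fun χ χ' h => by
      have h' : augP (sps K) ≫ χ = augP (sps K) ≫ χ' := (cochainEquiv K F.obj 0).injective h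
      have := aug_epi hX
      refine ((sheafificationAdjunction J AddCommGrpCat.{u}).homEquiv _ _).symm.injective
        ((cancel_epi ((presheafToSheaf J AddCommGrpCat.{u}).map (augP (sps K)))).1 ?_)
      rw [← Adjunction.homEquiv_naturality_left_symm, ← Adjunction.homEquiv_naturality_left_symm, h'])
    fun x hx => exists_of_cocycle hX F x hx

theorem nonempty_sections_iso (hX : LocFill J (sps K)) :
    Nonempty (Groth.L17.GrothSS.homFun ((presheafToSheaf J AddCommGrpCat.{u}).obj (constZ C)) ≅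
      (sheafToPresheaf J AddCommGrpCat.{u} ⋙ cxF K) ⋙
        (𝟭 _ ⋙ HomologicalComplex.homologyFunctor AddCommGrpCat.{u} (ComplexShape.up ℕ) 0)) := by
  have := fun F => isIso_augH hX F
  let adj := sheafificationAdjunction J AddCommGrpCat.{u}
  refine ⟨NatIso.ofComponents (fun F => AddEquiv.toAddCommGrpIso (X := (Groth.L17.GrothSS.homFun ((presheafToSheaf J AddCommGrpCat.{u}).obj (constZ C))).obj F) (Y := AddCommGrpCat.of (constZ C ⟶ F.obj)) (adj.homAddEquiv (constZ C) F) ≪≫ asIso (augH K F.obj))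
    fun {F G} g => ?_⟩
  have h1 : (Groth.L17.GrothSS.homFun ((presheafToSheaf J AddCommGrpCat.{u}).obj (constZ C))).map g ≫
      AddCommGrpCat.ofHom (adj.homAddEquiv (constZ C) G).toAddMonoidHom =
    AddCommGrpCat.ofHom (adj.homAddEquiv (constZ C) F).toAddMonoidHom ≫
      AddCommGrpCat.ofHom (AddMonoidHom.mk' (fun χ : constZ C ⟶ F.obj => χ ≫ g.hom) fun a b => Preadditive.add_comp _ _ _ _ _ _) :=
    AddCommGrpCat.hom_ext (AddMonoidHom.ext fun x => adj.homEquiv_naturality_right x g)
  exact ((Category.assoc _ _ _).symm.trans (congrArg (· ≫ augH K G.obj) h1)).trans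
    (((Category.assoc _ _ _).trans (congrArg (AddCommGrpCat.ofHom (adj.homAddEquiv (constZ C) F).toAddMonoidHom ≫ ·)
      (augH_naturality K g.hom))).trans (Category.assoc _ _ _).symm)

theorem exists_spectralSequence (hX : LocFill J (sps K)) (F : Sheaf J AddCommGrpCat.{u}) :
    ∃ (E : E₂CohomologicalSpectralSequence AddCommGrpCat.{u})
      (a : SpSeq.Abutment E (fun n : ℤ => if 0 ≤ n then AddCommGrpCat.of (Sheaf.H F n.toNat) else AddCommGrpCat.of PUnit.{u + 1})),
      (∀ n, a.IsFinite n) ∧ SpSeq.IsBounded E ∧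
      ∀ p q : ℤ, Nonempty ((E.page 2 le_rfl).X (p, q) ≅
        (if 0 ≤ p ∧ 0 ≤ q then (_root_.Hyper.cechCxSite K (Sheaf.cohomologyPresheaf F q.toNat)).homology p.toNat
         else AddCommGrpCat.of PUnit.{u + 1})) := by
  letI := HasDerivedCategory.standard (CochainComplex AddCommGrpCat.{u} ℕ)
  let S := 𝟭 (CochainComplex AddCommGrpCat.{u} ℕ) ⋙ HomologicalComplex.homologyFunctor AddCommGrpCat.{u} (ComplexShape.up ℕ) 0
  have hid : ∀ T : ShortComplex (CochainComplex AddCommGrpCat.{u} ℕ), T.ShortExact → (T.map (𝟭 _)).ShortExact := fun T hT => hT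
  have : PreservesFiniteLimits S := RDerComplex.preservesFiniteLimits_homologyZero _ hid
  obtain ⟨hl, hc⟩ := ((cxF K).exact_tfae.out 0 3).1 (cxF_shortExact K)
  have hR : ∀ (n : ℕ) (Y : CochainComplex AddCommGrpCat.{u} ℕ), Nonempty ((S.rightDerived n).obj Y ≅ Y.homology n) :=
    fun n Y => RDerComplex.nonempty_rightDerived_homology (𝟭 _) hid (fun I hI p => isZero_homology_injective I p) n Y
  refine Groth.L17.GrothSS.exists_spectralSequence_of_iso (sheafToPresheaf J AddCommGrpCat.{u} ⋙ cxF K) S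
    (fun Q hQ q hq => ?_) F _ _ ?_ ?_ ?_ ?_
  · obtain ⟨k, rfl⟩ : ∃ k, q = k + 1 := ⟨q - 1, by omega⟩
    exact (isZero_homology_of_injective hX Q k).of_iso (hR _ _).some
  · intro n
    obtain ⟨c⟩ := nonempty_sections_iso hX
    obtain ⟨z⟩ := nonempty_free_punit_iso (J := J)
    obtain ⟨e⟩ := Groth.L17.GrothSS.nonempty_rightDerived_homFun ((constantSheaf J AddCommGrpCat.{u}).obj (AddCommGrpCat.of (ULift.{u} ℤ))) F n
    rw [if_pos (Int.natCast_nonneg n), Int.toNat_natCast]
    exact ⟨e.symm ≪≫ (SiteCoh.rightDerivedCongr (preadditiveCoyoneda.mapIso z.op ≪≫ c) n).app F⟩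
  · intro n hn
    rw [if_neg (by omega)]
    exact Groth.L17.GrothSS.isZero_punit
  · intro p q
    obtain ⟨e⟩ := SiteCoh.nonempty_rightDerived_iso F q
    obtain ⟨e'⟩ := hR p ((cxF K).obj (F.cohomologyPresheaf q))
    rw [if_pos ⟨Int.natCast_nonneg p, Int.natCast_nonneg q⟩, Int.toNat_natCast, Int.toNat_natCast]
    exact ⟨(S.rightDerived p).mapIso (SiteCoh.rightDerivedCompIso (sheafToPresheaf J AddCommGrpCat.{u}) (cxF K) q F ≪≫
      (cxF K).mapIso e) ≪≫ e'⟩
  · intro p q h
    rw [if_neg h]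
    exact Groth.L17.GrothSS.isZero_punit

end Groth.L10.Hyper
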